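import Mathlib

set_option autoImplicit false

/-! S0745/S0746 package P6 (file `Cfsg/Agent/LW/Arith.lean`): the arithmetic for `t ≤ 3` -/

namespace Cfsg.Agent.LW

open MulAction

/-- bound for `s` from `r * (r * s - 1) ≤ B` with `2 ≤ r` -/
theorem lw_arith_bound {r s B : ℕ} (hr : 2 ≤ r) (hle : r * (r * s - 1) ≤ B) :
    4 * s ≤ B + 2 := by
  have h1 : 2 * s ≤ r * s := Nat.mul_le_mul_right s hr
  have h2 : 2 * (2 * s - 1) ≤ r * (r * s - 1) :=
    Nat.mul_le_mul hr (by omega)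
  omega

theorem lw_arith1 {r s : ℕ} (hs : Odd s) (hr : 2 ≤ r) (h1 : r ∣ Nat.factorial 2)
    (h2 : r * (r * s - 1) ∣ Nat.factorial 3) : r = 2 ∧ s = 1 := by
  have e2 : Nat.factorial 2 = 2 := by decide
  have e3 : Nat.factorial 3 = 6 := by decide
  rw [e2] at h1
  rw [e3] at h2
  rw [Nat.odd_iff] at hs
  have hr2 : r ≤ 2 := Nat.le_of_dvd (by norm_num) h1
  have hle : r * (r * s - 1) ≤ 6 := Nat.le_of_dvd (by norm_num) h2
  have hb := lw_arith_bound hr hle
  have hs2 : s ≤ 2 := by omega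
  interval_cases r
  interval_cases s <;> first | omega | (exfalso; revert h2; decide) | simp

theorem lw_arith2 {r s : ℕ} (hs : Odd s) (hr : 2 ≤ r) (h1 : r ∣ Nat.factorial 3)
    (h2 : r * (r * s - 1) ∣ Nat.factorial 4) :
    (r = 2 ∧ s = 1) ∨ (r = 3 ∧ s = 1) ∨ (r = 3 ∧ s = 3) := by
  have e3 : Nat.factorial 3 = 6 := by decide
  have e4 : Nat.factorial 4 = 24 := by decide
  rw [e3] at h1
  rw [e4] at h2
  rw [Nat.odd_iff] at hs
  have hr6 : r ≤ 6 := Nat.le_of_dvd (by norm_num) h1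
  have hle : r * (r * s - 1) ≤ 24 := Nat.le_of_dvd (by norm_num) h2
  have hb := lw_arith_bound hr hle
  have hs6 : s ≤ 6 := by omega
  interval_cases r <;> first
    | (exfalso; revert h1; decide)
    | (interval_cases s <;> first
        | omega
        | (exfalso; revert h2; decide)
        | simp)

theorem lw_arith3 {r s : ℕ} (hs : Odd s) (hr : 2 ≤ r) (h1 : r ∣ Nat.factorial 4)
    (h2 : r * (r * s - 1) ∣ Nat.factorial 5) :
    (r = 2 ∧ s = 1) ∨ (r = 2 ∧ s = 3) ∨ (r = 3 ∧ s = 1) ∨ (r = 3 ∧ s = 3) ∨ (r = 3 ∧ s = 7) ∨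
      (r = 4 ∧ s = 1) ∨ (r = 6 ∧ s = 1) := by
  have e4 : Nat.factorial 4 = 24 := by decide
  have e5 : Nat.factorial 5 = 120 := by decide
  rw [e4] at h1
  rw [e5] at h2
  rw [Nat.odd_iff] at hs
  have hr24 : r ≤ 24 := Nat.le_of_dvd (by norm_num) h1
  have hle : r * (r * s - 1) ≤ 120 := Nat.le_of_dvd (by norm_num) h2
  have hb := lw_arith_bound hr hle
  have hs30 : s ≤ 30 := by omega
  interval_cases r <;> first
    | (exfalso; revert h1; decide)
    | (interval_cases s <;> first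
        | omega
        | (exfalso; revert h2; decide)
        | simp)

end Cfsg.Agent.LW
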