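import Mathlib

set_option autoImplicit false

/-!
# Livingstone–Wagner lemma (S0745) and first form of the theorem (S0746): shared definitions

Blueprint: `notes/S0745_blueprint_helper8.md`.

`Sharp G α t s m`: `G` acts `t`-transitively on the finite set `α` of size `t + m`, has order
`(t+m)(t+m-1)⋯(m+1)·s` (so the stabiliser of `t` points has order `s`), and every element fixing
at least `t + 1` points is the identity (so the stabiliser of `t` points acts semiregularly on
the remaining `m` points).
-/

namespace Cfsg.Agent.LW

open MulAction

structure Sharp (G α : Type*) [Group G] [MulAction G α] (t s m : ℕ) : Prop where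
  trans : IsMultiplyPretransitive G α t
  card_α : Nat.card α = t + m
  card_G : Nat.card G = (t + m).descFactorial t * s
  fix : ∀ g : G, t + 1 ≤ (fixedBy α g).ncard → g = 1

end Cfsg.Agent.LW
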