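import Mathlib

set_option autoImplicit false

/-! S0745/S0746 package P1a (file `Cfsg/Agent/LW/Orders.lean`): order formulas -/

namespace Cfsg.Agent.LW

open MulAction

variable {G α : Type*} [Group G] [MulAction G α] [Finite G] [Fintype α] [DecidableEq α]

/-- order formula for a `t`-transitive action -/
theorem lw_card_of_trans {t : ℕ} (ht : IsMultiplyPretransitive G α t) (Γ : Set α)
    (hΓ : Γ.ncard = t) :
    Nat.card G = (Nat.card α).descFactorial t * Nat.card (fixingSubgroup G Γ) := by
  subst hΓ
  rw [← (fixingSubgroup G Γ).index_mul_card, ht.index_of_fixingSubgroup_eq Γ,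
    Nat.descFactorial_eq_factorial_mul_choose, mul_comm (Nat.choose _ _)]

/-- order formula for a `j`-homogeneous action -/
theorem lw_card_of_homog {j : ℕ} (hj : IsPretransitive G (Set.powersetCard α j))
    (Δ : Set.powersetCard α j) :
    Nat.card G = (Nat.card α).choose j * Nat.card (stabilizer G Δ) := by
  rw [← (stabilizer G Δ).index_mul_card, index_stabilizer_of_transitive G Δ,
    Set.powersetCard.card]

open scoped Pointwise in
/-- conjugation by `g` maps the pointwise stabiliser of `s` onto that of `g • s` -/
theorem lw_orders_conj_mem {g : G} {s : Set α} {x : G} (hx : x ∈ fixingSubgroup G s) :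
    g * x * g⁻¹ ∈ fixingSubgroup G (g • s) := by
  rw [mem_fixingSubgroup_iff] at hx ⊢
  intro y hy
  obtain ⟨a, ha, rfl⟩ := hy
  show (g * x * g⁻¹) • (g • a) = g • a
  rw [mul_smul, mul_smul, inv_smul_smul, hx a ha]

open scoped Pointwise in
/-- the pointwise stabilisers of `s` and `g • s` have the same order -/
theorem lw_orders_card_fix_smul (g : G) (s : Set α) :
    Nat.card (fixingSubgroup G s) = Nat.card (fixingSubgroup G (g • s)) := by
  refine Nat.card_congr
    { toFun := fun x => ⟨g * x.1 * g⁻¹, lw_orders_conj_mem x.2⟩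
      invFun := fun x => ⟨g⁻¹ * x.1 * g, by
        have h1 := lw_orders_conj_mem (g := g⁻¹) x.2
        rw [inv_smul_smul, inv_inv] at h1
        exact h1⟩
      left_inv := fun x => by
        apply Subtype.ext
        show g⁻¹ * (g * x.1 * g⁻¹) * g = x.1
        group
      right_inv := fun x => by
        apply Subtype.ext
        show g * (g⁻¹ * x.1 * g) * g⁻¹ = x.1
        group }

open scoped Pointwise in
/-- pointwise stabilisers of `j`-sets all have the same order in a `j`-homogeneous action -/
theorem lw_card_fix_eq {j : ℕ} (hj : IsPretransitive G (Set.powersetCard α j))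
    (Δ₁ Δ₂ : Set.powersetCard α j) :
    Nat.card (fixingSubgroup G ((Δ₁ : Finset α) : Set α)) =
      Nat.card (fixingSubgroup G ((Δ₂ : Finset α) : Set α)) := by
  obtain ⟨g, hg⟩ := hj.exists_smul_eq Δ₁ Δ₂
  have h1 : ((Δ₂ : Finset α) : Set α) = g • ((Δ₁ : Finset α) : Set α) := by
    rw [← hg, Set.powersetCard.coe_smul, Finset.coe_smul_finset]
  rw [h1]
  exact lw_orders_card_fix_smul g _

/-- an invariant finset all of whose points have orbits of the same size `u` has size divisible by `u` -/
theorem lw_orbit_dvd {H : Type*} [Group H] [MulAction H α] [Finite H] (S : Finset α)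
    (hS : ∀ (g : H) (x : α), x ∈ S → g • x ∈ S) (u : ℕ)
    (hu : ∀ x ∈ S, Nat.card (orbit H x) = u) : u ∣ S.card := by
  classical
  revert hS hu
  refine Finset.strongInduction (p := fun S => (∀ (g : H) (x : α), x ∈ S → g • x ∈ S) →
    (∀ x ∈ S, Nat.card (orbit H x) = u) → u ∣ S.card) ?_ S
  intro S ih hS hu
  rcases S.eq_empty_or_nonempty with rfl | ⟨x, hx⟩
  · simp
  · let O : Finset α := S.filter (fun y => y ∈ orbit H x)
    have hOsub : O ⊆ S := Finset.filter_subset _ _
    have hOcoe : (O : Set α) = orbit H x := by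
      ext y
      simp only [O, Finset.coe_filter, Set.mem_ofPred_eq]
      constructor
      · exact fun h => h.2
      · intro hy
        refine ⟨?_, hy⟩
        obtain ⟨g, rfl⟩ := hy
        exact hS g x hx
    have hOcard : O.card = u := by
      rw [← hu x hx, ← Set.ncard_coe_finset, hOcoe, Nat.card_coe_set_eq]
    have hxO : x ∈ O := by
      simp only [O, Finset.mem_filter]
      exact ⟨hx, mem_orbit_self x⟩
    have hlt : S \ O ⊂ S := by
      refine Finset.ssubset_iff_subset_ne.mpr ⟨Finset.sdiff_subset, ?_⟩
      intro he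
      have : x ∈ S \ O := by rw [he]; exact hx
      exact (Finset.mem_sdiff.mp this).2 hxO
    have h1 : u ∣ (S \ O).card := by
      refine ih (S \ O) hlt ?_ ?_
      · intro g y hy
        obtain ⟨hyS, hyO⟩ := Finset.mem_sdiff.mp hy
        refine Finset.mem_sdiff.mpr ⟨hS g y hyS, ?_⟩
        intro hgy
        apply hyO
        simp only [O, Finset.mem_filter] at hgy ⊢
        refine ⟨hyS, ?_⟩
        have := hgy.2
        rw [mem_orbit_iff] at this ⊢
        obtain ⟨k, hk⟩ := this
        refine ⟨g⁻¹ * k, ?_⟩
        rw [mul_smul, hk, inv_smul_smul]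
      · intro y hy
        exact hu y (Finset.mem_sdiff.mp hy).1
    rw [← Finset.card_sdiff_add_card_eq_card hOsub, hOcard]
    exact dvd_add h1 dvd_rfl

end Cfsg.Agent.LW
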