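import Mathlib

set_option autoImplicit false

/-! S0745/S0746 package P1b (file `Cfsg/Agent/LW/Trans.lean`): criteria for `(t+1)`-transitivity -/

namespace Cfsg.Agent.LW

open MulAction
open scoped Pointwise

variable {G α : Type*} [Group G] [MulAction G α] [Finite G] [Fintype α] [DecidableEq α]

omit [Finite G] [DecidableEq α] in
/-- an enumeration of a `t`-subset -/
theorem lw_trans_enum {t : ℕ} (Γ : Set α) (hΓ : Γ.ncard = t) :
    ∃ e : Fin t ↪ α, Set.range e = Γ := by
  classical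
  have hfin : Γ.Finite := Set.toFinite Γ
  have hc : hfin.toFinset.card = t := by
    rw [← Set.ncard_eq_toFinset_card Γ hfin]; exact hΓ
  let ε := hfin.toFinset.equivFinOfCardEq hc
  refine ⟨⟨fun i => (ε.symm i : α), fun a b hab => ε.symm.injective (Subtype.ext hab)⟩, ?_⟩
  ext a
  constructor
  · rintro ⟨i, rfl⟩
    have h1 := (ε.symm i).2
    rw [Set.Finite.mem_toFinset] at h1
    exact h1
  · intro ha
    have ha' : a ∈ hfin.toFinset := by simpa using ha
    refine ⟨ε ⟨a, ha'⟩, ?_⟩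
    change ((ε.symm (ε ⟨a, ha'⟩) : hfin.toFinset) : α) = a
    rw [Equiv.symm_apply_apply]

omit [Finite G] [DecidableEq α] in
/-- `t`-transitive + the stabiliser of some `t`-set is transitive on the rest ⇒ `(t+1)`-transitive -/
theorem lw_succ_trans {t : ℕ} (ht : IsMultiplyPretransitive G α t) (Γ : Set α) (hΓ : Γ.ncard = t)
    (hK : ∀ x y : α, x ∉ Γ → y ∉ Γ → ∃ g ∈ fixingSubgroup G Γ, g • x = y) :
    IsMultiplyPretransitive G α (t + 1) := by
  classical
  obtain ⟨e, he⟩ := lw_trans_enum Γ hΓ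
  have key : ∀ x : Fin (t + 1) ↪ α, ∃ g : G, ∀ i : Fin t, g • x (Fin.castSucc i) = e i := by
    intro x
    let x' : Fin t ↪ α := ⟨fun i => x (Fin.castSucc i),
      fun a b hab => Fin.castSucc_injective _ (x.injective hab)⟩
    obtain ⟨g, hg⟩ := ht.exists_smul_eq x' e
    refine ⟨g, fun i => ?_⟩
    have h1 := DFunLike.congr_fun hg i
    rw [Function.Embedding.smul_apply] at h1
    exact h1
  have hnot : ∀ (x : Fin (t + 1) ↪ α) (g : G), (∀ i : Fin t, g • x (Fin.castSucc i) = e i) →
      g • x (Fin.last t) ∉ Γ := by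
    intro x g h
    rw [← he]
    rintro ⟨i, hi⟩
    rw [← h i] at hi
    have := x.injective (smul_left_cancel g hi)
    exact (Fin.castSucc_lt_last i).ne this
  refine ⟨fun x y => ?_⟩
  obtain ⟨g₁, h₁⟩ := key x
  obtain ⟨g₂, h₂⟩ := key y
  obtain ⟨k, hk, hkxy⟩ := hK _ _ (hnot x g₁ h₁) (hnot y g₂ h₂)
  refine ⟨g₂⁻¹ * k * g₁, ?_⟩
  ext i
  simp only [Function.Embedding.smul_apply, mul_smul]
  rw [inv_smul_eq_iff]
  rcases Fin.eq_castSucc_or_eq_last i with ⟨i, rfl⟩ | rfl
  · rw [h₁, h₂]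
    have hmem : e i ∈ Γ := he ▸ Set.mem_range_self i
    exact (mem_fixingSubgroup_iff G).mp hk _ hmem
  · exact hkxy

omit [Finite G] [Fintype α] [DecidableEq α] in
/-- every permutation of the entries of a `j`-tuple is induced -/
theorem lw_trans_perm {j : ℕ}
    (hsw : ∀ Δ : Finset α, Δ.card = j → ∀ x ∈ Δ, ∀ y ∈ Δ, x ≠ y →
      ∃ g : G, g • x = y ∧ g • y = x ∧ ∀ w ∈ Δ, w ≠ x → w ≠ y → g • w = w)
    (σ : Equiv.Perm (Fin j)) : ∀ x : Fin j ↪ α, ∃ g : G, ∀ i, g • x i = x (σ i) := by
  induction σ using Equiv.Perm.swap_induction_on with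
  | one => intro x; exact ⟨1, fun i => by simp⟩
  | swap_mul τ a b hab ih =>
    intro x
    obtain ⟨g, hg⟩ := ih x
    obtain ⟨g', h1, h2, h3⟩ := hsw (Finset.univ.map x) (by simp) (x a) (by simp) (x b) (by simp)
      (x.injective.ne hab)
    refine ⟨g' * g, fun i => ?_⟩
    rw [mul_smul, hg, Equiv.Perm.mul_apply]
    by_cases e1 : τ i = a
    · rw [e1, Equiv.swap_apply_left, h1]
    · by_cases e2 : τ i = b
      · rw [e2, Equiv.swap_apply_right, h2]
      · rw [Equiv.swap_apply_of_ne_of_ne e1 e2]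
        exact h3 _ (by simp) (x.injective.ne e1) (x.injective.ne e2)

omit [Finite G] [Fintype α] in
/-- `j`-homogeneous + every transposition of every `j`-set is induced ⇒ `j`-transitive -/
theorem lw_trans_of_swaps {j : ℕ} (hj : IsPretransitive G (Set.powersetCard α j))
    (hsw : ∀ Δ : Finset α, Δ.card = j → ∀ x ∈ Δ, ∀ y ∈ Δ, x ≠ y →
      ∃ g : G, g • x = y ∧ g • y = x ∧ ∀ w ∈ Δ, w ≠ x → w ≠ y → g • w = w) :
    IsMultiplyPretransitive G α j := by
  classical
  refine ⟨fun x y => ?_⟩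
  have cx : (Finset.univ.map x).card = j := by simp
  have cy : (Finset.univ.map y).card = j := by simp
  obtain ⟨g, hg⟩ := hj.exists_smul_eq (Set.powersetCard.ofCard cx) (Set.powersetCard.ofCard cy)
  have hg' : g • (Finset.univ.map x) = Finset.univ.map y := by
    have := congrArg Subtype.val hg
    simpa using this
  have hmem : ∀ i, ∃ i', y i' = g • x i := by
    intro i
    have h1 : g • x i ∈ g • (Finset.univ.map x) := Finset.smul_mem_smul_finset (by simp)
    rw [hg'] at h1
    simpa using h1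
  choose σ hσ using hmem
  have σinj : Function.Injective σ := by
    intro a b hab
    have : g • x a = g • x b := by rw [← hσ a, ← hσ b, hab]
    exact x.injective (smul_left_cancel g this)
  let σ' : Equiv.Perm (Fin j) := Equiv.ofBijective σ (Finite.injective_iff_bijective.mp σinj)
  obtain ⟨h, hh⟩ := lw_trans_perm hsw σ' y
  refine ⟨h⁻¹ * g, ?_⟩
  ext i
  simp only [Function.Embedding.smul_apply, mul_smul]
  rw [inv_smul_eq_iff, hh i]
  exact (hσ i).symm

end Cfsg.Agent.LW
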