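import Mathlib
import Cfsg.Agent.LW.Orders
import Cfsg.Agent.LW.Trans

set_option autoImplicit false

/-! S0745/S0746 package P1c (file `Cfsg/Agent/LW/FixTriv.lean`): Lemma 4, all `(t+1)`-point stabilisers are trivial -/

namespace Cfsg.Agent.LW

open MulAction

/-- the hypotheses of S0745 in abstract form (`t = k - 2`) -/
structure Hyp (G α : Type*) [Group G] [MulAction G α] [Fintype α] [DecidableEq α] (t : ℕ) : Prop where
  ht1 : 1 ≤ t
  hn : t + 2 ≤ Fintype.card α
  trans : IsMultiplyPretransitive G α t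
  ntrans : ¬ IsMultiplyPretransitive G α (t + 1)
  homog1 : IsPretransitive G (Set.powersetCard α (t + 1))
  homog2 : IsPretransitive G (Set.powersetCard α (t + 2))

section aux

variable {G α : Type*} [Group G] [MulAction G α] [Finite G] [Fintype α] [DecidableEq α]

omit [Finite G] [Fintype α] [DecidableEq α] in
/-- orbit–stabiliser inside a pointwise stabiliser -/
theorem lw_fixtriv_orbit_mul (A : Set α) (z : α) :
    Nat.card (orbit (fixingSubgroup G A) z) * Nat.card (fixingSubgroup G (insert z A)) =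
      Nat.card (fixingSubgroup G A) := by
  have h1 : Nat.card (stabilizer (fixingSubgroup G A) z) =
      Nat.card (fixingSubgroup G (insert z A)) := by
    refine Nat.card_congr
      { toFun := fun g => ⟨g.1.1, ?_⟩
        invFun := fun g => ⟨⟨g.1, ?_⟩, ?_⟩
        left_inv := fun g => rfl
        right_inv := fun g => rfl }
    · rw [mem_fixingSubgroup_iff]
      intro w hw
      rcases hw with rfl | hw
      · exact g.2
      · exact (mem_fixingSubgroup_iff G).mp g.1.2 w hw
    · rw [mem_fixingSubgroup_iff]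
      intro w hw
      exact (mem_fixingSubgroup_iff G).mp g.2 w (Set.mem_insert_of_mem _ hw)
    · rw [mem_stabilizer_iff]
      exact (mem_fixingSubgroup_iff G).mp g.2 z (Set.mem_insert _ _)
  rw [← h1, ← Subgroup.index_mul_card (stabilizer (fixingSubgroup G A) z), index_stabilizer,
    Nat.card_coe_set_eq]

omit [Finite G] [DecidableEq α] in
/-- a finset version of an orbit -/
theorem lw_fixtriv_orbit_finset (H : Subgroup G) (z : α) :
    ∃ S : Finset α, (S : Set α) = orbit H z ∧ S.card = Nat.card (orbit H z) := by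
  classical
  refine ⟨Finset.univ.filter (fun w => w ∈ orbit H z), ?_, ?_⟩
  · ext w; simp
  · rw [← Set.ncard_coe_finset, ← Nat.card_coe_set_eq]
    congr 2
    ext w; simp

/-- pointwise stabilisers of `j`-sets (as sets) all have the same order in a `j`-homogeneous action -/
theorem lw_fixtriv_card_fix_eq {j : ℕ} (hj : IsPretransitive G (Set.powersetCard α j))
    (A B : Set α) (hA : A.ncard = j) (hB : B.ncard = j) :
    Nat.card (fixingSubgroup G A) = Nat.card (fixingSubgroup G B) := by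
  classical
  have key : ∀ C : Set α, C.ncard = j → ∃ Δ : Set.powersetCard α j,
      ((Δ : Finset α) : Set α) = C := by
    intro C hC
    have hfin : C.Finite := Set.toFinite C
    refine ⟨⟨hfin.toFinset, ?_⟩, ?_⟩
    · rw [Set.powersetCard.mem_iff, ← Set.ncard_eq_toFinset_card C hfin]; exact hC
    · simp
  obtain ⟨Δ₁, h1⟩ := key A hA
  obtain ⟨Δ₂, h2⟩ := key B hB
  rw [← h1, ← h2]
  exact lw_card_fix_eq hj Δ₁ Δ₂

end aux

variable {G α : Type*} [Group G] [MulAction G α] [Finite G] [Fintype α] [DecidableEq α]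
  [FaithfulSMul G α] {t : ℕ}

/-- core of Lemma 4 -/
theorem lw_fixtriv_core (h : Hyp G α t) (Γ : Set α) (hΓ : Γ.ncard = t) (x : α) (hx : x ∉ Γ) :
    fixingSubgroup G (insert x Γ) = ⊥ := by
  classical
  have hfinΓ : Γ.Finite := Set.toFinite Γ
  -- cardinalities of inserted sets
  have hc1 : ∀ z, z ∉ Γ → (insert z Γ).ncard = t + 1 := by
    intro z hz
    rw [Set.ncard_insert_of_notMem hz hfinΓ, hΓ]
  have hc2 : ∀ z, z ∉ insert x Γ → (insert z (insert x Γ)).ncard = t + 2 := by
    intro z hz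
    rw [Set.ncard_insert_of_notMem hz (Set.toFinite _), hc1 x hx]
  -- the two subgroups (as abbreviations)
  -- `ℓ₁`
  have hl1 : ∀ z, z ∉ Γ → Nat.card (fixingSubgroup G (insert z Γ)) =
      Nat.card (fixingSubgroup G (insert x Γ)) := fun z hz =>
    lw_fixtriv_card_fix_eq h.homog1 _ _ (hc1 z hz) (hc1 x hx)
  have hl1pos : 0 < Nat.card (fixingSubgroup G (insert x Γ)) := Nat.card_pos
  -- K-orbits on the complement of `Γ` all have the same size
  have hKorb : ∀ z, z ∉ Γ → Nat.card (orbit (fixingSubgroup G Γ) z) =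
      Nat.card (orbit (fixingSubgroup G Γ) x) := by
    intro z hz
    have e1 := lw_fixtriv_orbit_mul (G := G) Γ z
    have e2 := lw_fixtriv_orbit_mul (G := G) Γ x
    rw [hl1 z hz] at e1
    exact Nat.eq_of_mul_eq_mul_right hl1pos (e1.trans e2.symm)
  -- a point `y` outside `Γ` and outside the `K`-orbit of `x`
  obtain ⟨y, hyΓ, hyx⟩ : ∃ y, y ∉ Γ ∧ y ∉ orbit (fixingSubgroup G Γ) x := by
    by_contra hcon
    push Not at hcon
    apply h.ntrans
    refine lw_succ_trans h.trans Γ hΓ ?_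
    intro a b ha hb
    obtain ⟨g₁, hg₁⟩ := hcon a ha
    obtain ⟨g₂, hg₂⟩ := hcon b hb
    refine ⟨g₂.1 * g₁.1⁻¹, (fixingSubgroup G Γ).mul_mem g₂.2 ((fixingSubgroup G Γ).inv_mem g₁.2), ?_⟩
    have e1 : g₁.1 • x = a := hg₁
    have e2 : g₂.1 • x = b := hg₂
    rw [mul_smul, ← e1, inv_smul_smul, e2]
  -- points of `K`-orbits of points outside `Γ` are outside `Γ`
  have hout : ∀ z, z ∉ Γ → ∀ w ∈ orbit (fixingSubgroup G Γ) z, w ∉ Γ := by
    rintro z hz w ⟨k, rfl⟩ hw
    apply hz
    have e1 : k.1 • z ∈ Γ := hw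
    have e2 := (mem_fixingSubgroup_iff G).mp ((fixingSubgroup G Γ).inv_mem k.2) _ e1
    rw [inv_smul_smul] at e2
    rw [e2]; exact e1
  have hyx' : y ≠ x := by
    rintro rfl
    exact hyx (mem_orbit_self _)
  have hy2 : y ∉ insert x Γ := by
    rintro (h1 | h1)
    · exact hyx' h1
    · exact hyΓ h1
  -- `L ≤ K`
  have hLK : ∀ g : G, g ∈ fixingSubgroup G (insert x Γ) → g ∈ fixingSubgroup G Γ := fun g hg =>
    fixingSubgroup_antitone G α (Set.subset_insert x Γ) hg
  -- `L`-orbits outside `insert x Γ` all have the same size `u`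
  have hl2 : ∀ z, z ∉ insert x Γ → Nat.card (fixingSubgroup G (insert z (insert x Γ))) =
      Nat.card (fixingSubgroup G (insert y (insert x Γ))) := fun z hz =>
    lw_fixtriv_card_fix_eq h.homog2 _ _ (hc2 z hz) (hc2 y hy2)
  have hl2pos : 0 < Nat.card (fixingSubgroup G (insert y (insert x Γ))) := Nat.card_pos
  have hLorb : ∀ z, z ∉ insert x Γ → Nat.card (orbit (fixingSubgroup G (insert x Γ)) z) =
      Nat.card (orbit (fixingSubgroup G (insert x Γ)) y) := by
    intro z hz
    have e1 := lw_fixtriv_orbit_mul (G := G) (insert x Γ) z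
    have e2 := lw_fixtriv_orbit_mul (G := G) (insert x Γ) y
    rw [hl2 z hz] at e1
    exact Nat.eq_of_mul_eq_mul_right hl2pos (e1.trans e2.symm)
  -- the two invariant sets
  obtain ⟨S₁, hS₁, hS₁c⟩ := lw_fixtriv_orbit_finset (fixingSubgroup G Γ) y
  obtain ⟨S₀, hS₀, hS₀c⟩ := lw_fixtriv_orbit_finset (fixingSubgroup G Γ) x
  have memS₁ : ∀ w, w ∈ S₁ ↔ w ∈ orbit (fixingSubgroup G Γ) y := fun w => by
    rw [← hS₁]; exact Finset.mem_coe.symm
  have memS₀ : ∀ w, w ∈ S₀ ↔ w ∈ orbit (fixingSubgroup G Γ) x := fun w => by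
    rw [← hS₀]; exact Finset.mem_coe.symm
  have hd1 : Nat.card (orbit (fixingSubgroup G (insert x Γ)) y) ∣ S₁.card := by
    refine lw_orbit_dvd (H := fixingSubgroup G (insert x Γ)) S₁ ?_ _ ?_
    · intro g w hw
      rw [memS₁] at hw ⊢
      obtain ⟨k, rfl⟩ := hw
      exact ⟨⟨g.1, hLK g.1 g.2⟩ * k, by beta_reduce; rw [mul_smul]; rfl⟩
    · intro w hw
      rw [memS₁] at hw
      apply hLorb
      rintro (h1 | h1)
      · apply hyx
        rw [h1] at hw
        exact (orbit_eq_iff.mpr hw) ▸ mem_orbit_self _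
      · exact hout y hyΓ w hw h1
  have hd2 : Nat.card (orbit (fixingSubgroup G (insert x Γ)) y) ∣ (S₀.erase x).card := by
    refine lw_orbit_dvd (H := fixingSubgroup G (insert x Γ)) (S₀.erase x) ?_ _ ?_
    · intro g w hw
      rw [Finset.mem_erase, memS₀] at hw ⊢
      obtain ⟨hwx, k, rfl⟩ := hw
      refine ⟨?_, ⟨⟨g.1, hLK g.1 g.2⟩ * k, by beta_reduce; rw [mul_smul]; rfl⟩⟩
      intro hgx
      apply hwx
      have e1 : g.1 • x = x := (mem_fixingSubgroup_iff G).mp g.2 x (Set.mem_insert _ _)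
      have e2 : g.1 • (k • x) = x := hgx
      have e3 : g.1 • (k • x) = g.1 • x := e2.trans e1.symm
      exact smul_left_cancel g.1 e3
    · intro w hw
      rw [Finset.mem_erase, memS₀] at hw
      apply hLorb
      rintro (h1 | h1)
      · exact hw.1 h1
      · exact hout x hx w hw.2 h1
  have hxS₀ : x ∈ S₀ := (memS₀ x).mpr (mem_orbit_self _)
  have hcard : S₁.card = (S₀.erase x).card + 1 := by
    rw [Finset.card_erase_of_mem hxS₀, hS₁c, hS₀c, hKorb y hyΓ]
    have : 0 < S₀.card := Finset.card_pos.mpr ⟨x, hxS₀⟩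
    rw [hS₀c] at this
    omega
  have hu1 : Nat.card (orbit (fixingSubgroup G (insert x Γ)) y) = 1 := by
    rw [hcard] at hd1
    exact Nat.dvd_one.mp ((Nat.dvd_add_right hd2).mp hd1)
  -- every element of `L` acts trivially
  rw [Subgroup.eq_bot_iff_forall]
  intro g hg
  apply FaithfulSMul.eq_of_smul_eq_smul (α := α)
  intro z
  rw [one_smul]
  by_cases hz : z ∈ insert x Γ
  · exact (mem_fixingSubgroup_iff G).mp hg z hz
  · have h1 : Nat.card (orbit (fixingSubgroup G (insert x Γ)) z) = 1 := (hLorb z hz).trans hu1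
    have h2 : Subsingleton (orbit (fixingSubgroup G (insert x Γ)) z) :=
      (Nat.card_eq_one_iff_unique.mp h1).1
    have h3 : (⟨(⟨g, hg⟩ : fixingSubgroup G (insert x Γ)) • z, mem_orbit _ _⟩ :
        orbit (fixingSubgroup G (insert x Γ)) z) = ⟨z, mem_orbit_self _⟩ := Subsingleton.elim _ _
    exact congrArg Subtype.val h3

/-- Lemma 4: every `(t+1)`-point stabiliser is trivial -/
theorem lw_fix_trivial (h : Hyp G α t) (Δ : Set α) (hΔ : t + 1 ≤ Δ.ncard) :
    fixingSubgroup G Δ = ⊥ := by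
  classical
  obtain ⟨Δ', hsub, hcard⟩ := Set.exists_subset_card_eq hΔ
  have hne : Δ'.Nonempty := by
    rw [← Set.ncard_pos (Set.toFinite _), hcard]; omega
  obtain ⟨x, hx⟩ := hne
  have h1 : insert x (Δ' \ {x}) = Δ' := by
    rw [Set.insert_sdiff_singleton, Set.insert_eq_of_mem hx]
  have h2 : (Δ' \ {x}).ncard = t := by
    rw [Set.ncard_sdiff_singleton_of_mem hx, hcard]; rfl
  have h3 := lw_fixtriv_core h (Δ' \ {x}) h2 x (by simp)
  rw [h1] at h3
  exact le_bot_iff.mp (h3 ▸ fixingSubgroup_antitone G α hsub)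

end Cfsg.Agent.LW
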