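import Mathlib
import Cfsg.Agent.LW.FixTriv

set_option autoImplicit false

/-! S0745/S0746 package P1d (file `Cfsg/Agent/LW/OddS.lean`): Lemma 6, the `t`-point stabilisers have odd order -/

namespace Cfsg.Agent.LW

open MulAction

variable {G α : Type*} [Group G] [MulAction G α] [Finite G] [Fintype α] [DecidableEq α]
  [FaithfulSMul G α] {t : ℕ}

omit [FaithfulSMul G α] in
/-- all `t`-point stabilisers have the same order -/
theorem lw_odds_card_eq (h : Hyp G α t) (Γ Γ' : Set α) (hΓ : Γ.ncard = t) (hΓ' : Γ'.ncard = t) :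
    Nat.card (fixingSubgroup G Γ) = Nat.card (fixingSubgroup G Γ') := by
  have h1 := lw_card_of_trans h.trans Γ hΓ
  have h2 := lw_card_of_trans h.trans Γ' hΓ'
  have hpos : 0 < (Nat.card α).descFactorial t := by
    rw [Nat.pos_iff_ne_zero, Ne, Nat.descFactorial_eq_zero_iff_lt, Nat.card_eq_fintype_card]
    have := h.hn
    omega
  rw [h1] at h2
  exact Nat.eq_of_mul_eq_mul_left hpos h2

/-- an even-order subgroup contains an involution -/
theorem lw_odds_exists_invol (K : Subgroup G) (hK : Even (Nat.card K)) :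
    ∃ u : G, u ∈ K ∧ orderOf u = 2 := by
  have : Fact (Nat.Prime 2) := ⟨Nat.prime_two⟩
  obtain ⟨u, hu⟩ := exists_prime_orderOf_dvd_card' (G := K) 2 hK.two_dvd
  exact ⟨u, u.2, by rw [← hu, Subgroup.orderOf_coe]⟩

/-- if the `t`-point stabilisers have even order, every transposition of a `(t+1)`-set is induced -/
theorem lw_odds_swap (h : Hyp G α t)
    (heven : ∀ Γ : Set α, Γ.ncard = t → Even (Nat.card (fixingSubgroup G Γ)))
    (Δ : Finset α) (hΔ : Δ.card = t + 1) (x : α) (hx : x ∈ Δ) (x' : α) (hx' : x' ∈ Δ)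
    (hne : x ≠ x') :
    ∃ g : G, g • x = x' ∧ g • x' = x ∧ ∀ w ∈ Δ, w ≠ x → w ≠ x' → g • w = w := by
  classical
  set Γ₀ : Finset α := (Δ.erase x).erase x' with hΓ₀
  have hx'e : x' ∈ Δ.erase x := Finset.mem_erase.2 ⟨hne.symm, hx'⟩
  have hcard0 : Γ₀.card + 2 = t + 1 := by
    rw [hΓ₀, Finset.card_erase_of_mem hx'e, Finset.card_erase_of_mem hx, hΔ]
    have := h.ht1
    omega
  have hxΓ : x ∉ Γ₀ := by
    rw [hΓ₀]; intro hmem
    exact (Finset.mem_erase.1 (Finset.mem_erase.1 hmem).2).1 rfl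
  have hx'Γ : x' ∉ Γ₀ := by
    rw [hΓ₀]; intro hmem
    exact (Finset.mem_erase.1 hmem).1 rfl
  have hmemΓ : ∀ w ∈ Δ, w ≠ x → w ≠ x' → w ∈ Γ₀ := by
    intro w hw hwx hwx'
    rw [hΓ₀]
    exact Finset.mem_erase.2 ⟨hwx', Finset.mem_erase.2 ⟨hwx, hw⟩⟩
  -- choose an involution in every `t`-point stabiliser containing `Γ₀`
  have key : ∀ y, y ∉ Γ₀ → ∃ u : G, u ∈ fixingSubgroup G ((insert y Γ₀ : Finset α) : Set α) ∧
      orderOf u = 2 := by
    intro y hy
    apply lw_odds_exists_invol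
    apply heven
    rw [Set.ncard_coe_finset, Finset.card_insert_of_notMem hy]
    omega
  choose! u hu using key
  have hfixy : ∀ y, y ∉ Γ₀ → u y • y = y := by
    intro y hy
    exact (mem_fixingSubgroup_iff G).1 (hu y hy).1 y (by simp)
  have hfixΓ : ∀ y, y ∉ Γ₀ → ∀ w ∈ Γ₀, u y • w = w := by
    intro y hy w hw
    exact (mem_fixingSubgroup_iff G).1 (hu y hy).1 w (by simp [hw])
  have hsq : ∀ y, y ∉ Γ₀ → u y * u y = 1 := by
    intro y hy
    have := pow_orderOf_eq_one (u y)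
    rwa [(hu y hy).2, pow_two] at this
  have hne1 : ∀ y, y ∉ Γ₀ → u y ≠ 1 := by
    intro y hy h1
    have := (hu y hy).2
    rw [h1, orderOf_one] at this
    omega
  -- an element fixing `Γ₀` and two further points is trivial
  have htriv : ∀ (g : G) (a b : α), a ∉ Γ₀ → b ∉ Γ₀ → a ≠ b → (∀ w ∈ Γ₀, g • w = w) →
      g • a = a → g • b = b → g = 1 := by
    intro g a b ha hb hab hg hga hgb
    have hbot := lw_fix_trivial h ((insert a (insert b Γ₀) : Finset α) : Set α) (by
      rw [Set.ncard_coe_finset, Finset.card_insert_of_notMem, Finset.card_insert_of_notMem hb]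
      · omega
      · simp only [Finset.mem_insert, not_or]
        exact ⟨hab, ha⟩)
    have hmem : g ∈ fixingSubgroup G ((insert a (insert b Γ₀) : Finset α) : Set α) := by
      rw [mem_fixingSubgroup_iff]
      intro w hw
      simp only [Finset.coe_insert, Set.mem_insert_iff, Finset.mem_coe] at hw
      rcases hw with rfl | rfl | hw
      · exact hga
      · exact hgb
      · exact hg w hw
    rw [hbot] at hmem
    exact Subgroup.mem_bot.1 hmem
  have hmove : ∀ y, y ∉ Γ₀ → ∀ z, z ∉ Γ₀ → z ≠ y → u y • z ≠ z := by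
    intro y hy z hz hzy hfix
    exact hne1 y hy (htriv (u y) z y hz hy hzy (hfixΓ y hy) hfix (hfixy y hy))
  have hout : ∀ y, y ∉ Γ₀ → ∀ z, z ∉ Γ₀ → u y • z ∉ Γ₀ := by
    intro y hy z hz hmem
    have h1 := hfixΓ y hy _ hmem
    have h2 : u y • z = z := smul_left_cancel (u y) h1
    exact hz (h2 ▸ hmem)
  -- the self-map `y ↦ u y • x` of the points outside `Γ₀ ∪ {x}`
  let S := {y : α // y ∉ Γ₀ ∧ y ≠ x}
  let f : S → S := fun y => ⟨u y.1 • x, hout y.1 y.2.1 x hxΓ, hmove y.1 y.2.1 x hxΓ y.2.2.symm⟩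
  have hinj : Function.Injective f := by
    rintro ⟨y, hy, hyx⟩ ⟨y', hy', hy'x⟩ hff
    have hz : u y • x = u y' • x := congrArg Subtype.val hff
    have hzΓ : u y • x ∉ Γ₀ := hout y hy x hxΓ
    have hzx : u y • x ≠ x := hmove y hy x hxΓ hyx.symm
    have hinv : (u y)⁻¹ = u y := inv_eq_of_mul_eq_one_left (hsq y hy)
    have hg1 : (u y)⁻¹ * u y' = 1 := by
      apply htriv _ x (u y • x) hxΓ hzΓ hzx.symm
      · intro w hw
        rw [mul_smul, hfixΓ y' hy' w hw, hinv, hfixΓ y hy w hw]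
      · rw [mul_smul, ← hz, inv_smul_smul]
      · rw [mul_smul, hz, smul_smul (u y') (u y') x, hsq y' hy', one_smul, hinv, ← hz]
    have huu : u y' = u y := by
      have := inv_mul_eq_one.1 hg1
      exact this.symm
    have hyy : y' = y := by
      by_contra hcon
      exact hmove y hy y' hy' hcon (by rw [← huu]; exact hfixy y' hy')
    subst hyy
    rfl
  have hsurj : Function.Surjective f := Finite.injective_iff_surjective.1 hinj
  obtain ⟨⟨y, hy, hyx⟩, hfy⟩ := hsurj ⟨x', hx'Γ, hne.symm⟩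
  have hyx' : u y • x = x' := congrArg Subtype.val hfy
  refine ⟨u y, hyx', ?_, ?_⟩
  · rw [← hyx', ← mul_smul, hsq y hy, one_smul]
  · intro w hw hwx hwx'
    exact hfixΓ y hy w (hmemΓ w hw hwx hwx')

/-- Lemma 6: the `t`-point stabilisers have odd order -/
theorem lw_odd (h : Hyp G α t) (Γ : Set α) (hΓ : Γ.ncard = t) :
    Odd (Nat.card (fixingSubgroup G Γ)) := by
  by_contra hodd
  rw [Nat.not_odd_iff_even] at hodd
  apply h.ntrans
  apply lw_trans_of_swaps h.homog1
  intro Δ hΔ x hx y hy hxy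
  exact lw_odds_swap h (fun Γ' hΓ' => by rw [lw_odds_card_eq h Γ' Γ hΓ' hΓ]; exact hodd)
    Δ hΔ x hx y hy hxy

end Cfsg.Agent.LW
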