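import Mathlib
import Cfsg.Agent.LW.OddS
import Cfsg.Agent.LW.Defs

set_option autoImplicit false

/-! S0745/S0746 package P1e (file `Cfsg/Agent/LW/Base.lean`): summary of the basic analysis -/

namespace Cfsg.Agent.LW

open MulAction

section arith

/-- cancellation giving `(t+1)! = r * a` -/
theorem lw_base_arith1 {n t s r a : ℕ} (hn : t + 1 ≤ n) (hm : n - t = r * s)
    (hG : n.descFactorial t * s = n.choose (t + 1) * a) :
    (t + 1).factorial = r * a := by
  have h1 : n.descFactorial (t + 1) = (t + 1).factorial * n.choose (t + 1) :=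
    Nat.descFactorial_eq_factorial_mul_choose n (t + 1)
  have h2 : n.descFactorial (t + 1) = (n - t) * n.descFactorial t := Nat.descFactorial_succ n t
  have hpos : 0 < n.choose (t + 1) := Nat.choose_pos hn
  apply Nat.eq_of_mul_eq_mul_right hpos
  calc (t + 1).factorial * n.choose (t + 1) = (n - t) * n.descFactorial t := by rw [← h1, h2]
    _ = r * (n.descFactorial t * s) := by rw [hm]; ring
    _ = r * a * n.choose (t + 1) := by rw [hG]; ring

/-- cancellation giving `(t+2)! = r * (r*s - 1) * b` -/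
theorem lw_base_arith2 {n t s r b : ℕ} (hn : t + 2 ≤ n) (hm : n - t = r * s)
    (hG : n.descFactorial t * s = n.choose (t + 2) * b) :
    (t + 2).factorial = r * (r * s - 1) * b := by
  have h1 : n.descFactorial (t + 2) = (t + 2).factorial * n.choose (t + 2) :=
    Nat.descFactorial_eq_factorial_mul_choose n (t + 2)
  have h2 : n.descFactorial (t + 2) = (n - (t + 1)) * ((n - t) * n.descFactorial t) := by
    rw [Nat.descFactorial_succ n (t + 1), Nat.descFactorial_succ n t]
  have h3 : n - (t + 1) = r * s - 1 := by rw [← hm]; omega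
  have hpos : 0 < n.choose (t + 2) := Nat.choose_pos hn
  apply Nat.eq_of_mul_eq_mul_right hpos
  calc (t + 2).factorial * n.choose (t + 2)
      = (n - (t + 1)) * ((n - t) * n.descFactorial t) := by rw [← h1, h2]
    _ = r * (r * s - 1) * (n.descFactorial t * s) := by rw [h3, hm]; ring
    _ = r * (r * s - 1) * b * n.choose (t + 2) := by rw [hG]; ring

end arith

variable {G α : Type*} [Group G] [MulAction G α] [Finite G] [Fintype α] [DecidableEq α]
  [FaithfulSMul G α] {t : ℕ}

/-- the summary of the basic analysis -/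
theorem lw_base (h : Hyp G α t) :
    ∃ s r : ℕ, Sharp G α t s (r * s) ∧ Odd s ∧ 2 ≤ r ∧ r ∣ (t + 1).factorial ∧
      r * (r * s - 1) ∣ (t + 2).factorial := by
  classical
  have hn := h.hn
  have hcardα : Nat.card α = Fintype.card α := Nat.card_eq_fintype_card
  -- a `t`-set `Γ`, a `(t+1)`-set, a `(t+2)`-set
  obtain ⟨Γf, -, hΓf⟩ := Finset.exists_subset_card_eq (s := (Finset.univ : Finset α)) (n := t)
    (by rw [Finset.card_univ]; omega)
  obtain ⟨Δ1, -, hΔ1⟩ := Finset.exists_subset_card_eq (s := (Finset.univ : Finset α)) (n := t + 1)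
    (by rw [Finset.card_univ]; omega)
  obtain ⟨Δ2, -, hΔ2⟩ := Finset.exists_subset_card_eq (s := (Finset.univ : Finset α)) (n := t + 2)
    (by rw [Finset.card_univ]; omega)
  set Γ : Set α := (Γf : Set α) with hΓdef
  have hΓ : Γ.ncard = t := by rw [hΓdef, Set.ncard_coe_finset, hΓf]
  set s := Nat.card (fixingSubgroup G Γ) with hs
  have hspos : 0 < s := Nat.card_pos
  have hG := lw_card_of_trans h.trans Γ hΓ
  rw [hcardα] at hG
  -- semiregularity
  have horb : ∀ z, z ∉ Γ → Nat.card (orbit (fixingSubgroup G Γ) z) = s := by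
    intro z hz
    have e1 := lw_fixtriv_orbit_mul (G := G) Γ z
    have e2 : fixingSubgroup G (insert z Γ) = ⊥ := by
      apply lw_fix_trivial h
      rw [Set.ncard_insert_of_notMem hz (Set.toFinite _), hΓ]
    rw [e2, Subgroup.card_bot, mul_one] at e1
    exact e1
  -- points of `K`-orbits of points outside `Γ` are outside `Γ`
  have hout : ∀ z, z ∉ Γ → ∀ w ∈ orbit (fixingSubgroup G Γ) z, w ∉ Γ := by
    rintro z hz w ⟨k, rfl⟩ hw
    apply hz
    have e1 : k.1 • z ∈ Γ := hw
    have e2 := (mem_fixingSubgroup_iff G).mp ((fixingSubgroup G Γ).inv_mem k.2) _ e1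
    rw [inv_smul_smul] at e2
    rw [e2]; exact e1
  -- `s ∣ m`
  have hCcard : (Γfᶜ).card = Fintype.card α - t := by rw [Finset.card_compl, hΓf]
  have hmemC : ∀ w, w ∈ Γfᶜ ↔ w ∉ Γ := fun w => by
    rw [Finset.mem_compl, hΓdef, Finset.mem_coe]
  have hdvd : s ∣ (Γfᶜ).card := by
    refine lw_orbit_dvd (H := fixingSubgroup G Γ) (Γfᶜ) ?_ s ?_
    · intro g w hw
      rw [hmemC] at hw ⊢
      exact hout w hw _ (mem_orbit _ _)
    · intro w hw
      exact horb w ((hmemC w).mp hw)
  obtain ⟨r, hr⟩ := hdvd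
  rw [hCcard] at hr
  have hm : Fintype.card α - t = r * s := by rw [hr, mul_comm]
  have hnm : Fintype.card α = t + r * s := by omega
  refine ⟨s, r, ⟨h.trans, ?_, ?_, ?_⟩, lw_odd h Γ hΓ, ?_, ?_, ?_⟩
  · rw [hcardα, hnm]
  · rw [hG, hnm]
  · intro g hg
    have e1 : fixingSubgroup G (fixedBy α g) = ⊥ := lw_fix_trivial h _ hg
    have e2 : g ∈ fixingSubgroup G (fixedBy α g) := by
      rw [mem_fixingSubgroup_iff]
      intro y hy
      exact hy
    rw [e1] at e2
    exact Subgroup.mem_bot.mp e2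
  · -- `2 ≤ r`
    by_contra hlt
    push Not at hlt
    have hr0 : r ≠ 0 := by
      rintro rfl
      omega
    have hr1 : r = 1 := by omega
    subst hr1
    rw [one_mul] at hm
    apply h.ntrans
    -- a point outside `Γ`
    have hne : (Γfᶜ).Nonempty := by
      rw [← Finset.card_pos, hCcard]; omega
    obtain ⟨x, hx⟩ := hne
    have hxΓ : x ∉ Γ := (hmemC x).mp hx
    obtain ⟨S, hS, hSc⟩ := lw_fixtriv_orbit_finset (fixingSubgroup G Γ) x
    have hSsub : S ⊆ Γfᶜ := by
      intro w hw
      rw [hmemC]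
      apply hout x hxΓ
      rw [← hS]; exact Finset.mem_coe.mpr hw
    have hSeq : S = Γfᶜ := by
      apply Finset.eq_of_subset_of_card_le hSsub
      rw [hSc, horb x hxΓ, hCcard, hm]
    have hall : ∀ w, w ∉ Γ → w ∈ orbit (fixingSubgroup G Γ) x := by
      intro w hw
      rw [← hS, Finset.mem_coe, hSeq, hmemC]
      exact hw
    refine lw_succ_trans h.trans Γ hΓ ?_
    intro a b ha hb
    obtain ⟨g₁, hg₁⟩ := hall a ha
    obtain ⟨g₂, hg₂⟩ := hall b hb
    refine ⟨g₂.1 * g₁.1⁻¹, (fixingSubgroup G Γ).mul_mem g₂.2 ((fixingSubgroup G Γ).inv_mem g₁.2), ?_⟩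
    have e1 : g₁.1 • x = a := hg₁
    have e2 : g₂.1 • x = b := hg₂
    rw [mul_smul, ← e1, inv_smul_smul, e2]
  · -- `r ∣ (t+1)!`
    have hH := lw_card_of_homog h.homog1 (Set.powersetCard.ofCard hΔ1)
    rw [hcardα, hG] at hH
    exact ⟨_, lw_base_arith1 (by omega) hm hH⟩
  · -- `r (rs - 1) ∣ (t+2)!`
    have hH := lw_card_of_homog h.homog2 (Set.powersetCard.ofCard hΔ2)
    rw [hcardα, hG] at hH
    exact ⟨_, lw_base_arith2 hn hm hH⟩

end Cfsg.Agent.LW
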