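import Mathlib
import Cfsg.Agent.LW.Defs
import Cfsg.Agent.S0035
import Cfsg.Agent.Helper7.TwoOrbits

set_option autoImplicit false

/-! S0745/S0746 package P2 (file `Cfsg/Agent/LW/Frob.lean`): exclusion of Frobenius configurations via landed S0035 -/

namespace Cfsg.Agent.LW

open MulAction
open scoped Pointwise

variable {G α : Type*} [Group G] [MulAction G α] [Finite G] [Finite α]

/-- membership in a conjugate `MulAut.conj g • H` -/
theorem lw_frob_mem_conj {G : Type*} [Group G] (H : Subgroup G) (g x : G) :
    x ∈ MulAut.conj g • H ↔ g⁻¹ * x * g ∈ H := by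
  rw [Subgroup.mem_pointwise_smul_iff_inv_smul_mem]
  simp [MulAut.smul_def, MulAut.conj_inv_apply]

/-- the point stabiliser of a `Sharp G α 1 s m` action has order `s` -/
theorem lw_frob_card_stab {s m : ℕ} (h : Sharp G α 1 s m) (a : α) :
    Nat.card (stabilizer G a) = s := by
  have htr : IsPretransitive G α := is_one_pretransitive_iff.mp h.trans
  have h1 : (stabilizer G a).index * Nat.card (stabilizer G a) = Nat.card G :=
    Subgroup.index_mul_card _
  rw [MulAction.index_stabilizer_of_transitive G a, h.card_α, h.card_G,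
    Nat.descFactorial_one] at h1
  exact Nat.eq_of_mul_eq_mul_left (by omega) h1

/-- the point stabiliser is a Frobenius complement -/
theorem lw_frob_isFrobeniusComplement {s m : ℕ} (h : Sharp G α 1 s m) (hs : 1 < s) (hm : 1 ≤ m)
    (a : α) : Cfsg.IsFrobeniusComplement (stabilizer G a) := by
  have hcard := lw_frob_card_stab h a
  refine ⟨?_, ?_, ?_⟩
  · intro hbot
    rw [hbot, Subgroup.card_bot] at hcard
    omega
  · intro htop
    rw [htop, Subgroup.card_top, h.card_G, Nat.descFactorial_one] at hcard
    have : (1 + m) * s ≥ 2 * s := Nat.mul_le_mul_right s (by omega)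
    omega
  · intro g hg
    rw [eq_bot_iff]
    intro x hx
    rw [Subgroup.mem_bot]
    obtain ⟨hx1, hx2⟩ := Subgroup.mem_inf.mp hx
    rw [lw_frob_mem_conj] at hx2
    apply h.fix
    have hne : a ≠ g • a := fun e => hg (mem_stabilizer_iff.mpr e.symm)
    have hsub : ({a, g • a} : Set α) ⊆ fixedBy α x := by
      intro b hb
      rcases hb with rfl | rfl
      · exact mem_stabilizer_iff.mp hx1
      · rw [mem_fixedBy]
        have := mem_stabilizer_iff.mp hx2
        rw [mul_smul, mul_smul] at this
        have h3 := congrArg (fun c => g • c) this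
        simpa using h3
    have := Set.ncard_le_ncard hsub (Set.toFinite _)
    rw [Set.ncard_pair hne] at this
    omega

theorem lw_frob {s m p : ℕ} (h : Sharp G α 1 s m) (hp : p.Prime) (hp2 : p ≠ 2)
    (hm : m + 1 = 2 * p) (hs : 1 < s) (hsp : ¬ s ∣ p - 1) : False := by
  classical
  have hp1 := hp.two_le
  have : Fact p.Prime := ⟨hp⟩
  have hα : Nonempty α := by
    have : 0 < Nat.card α := by rw [h.card_α]; omega
    exact (Nat.card_pos_iff.mp this).1
  obtain ⟨a⟩ := hα
  set H := stabilizer G a with hH
  have hcardH : Nat.card H = s := lw_frob_card_stab h a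
  have hF := lw_frob_isFrobeniusComplement h hs (by omega) a
  obtain ⟨N, hNk, hNn, hNc⟩ := Cfsg.Agent.S0035.result H hF
  -- order of the kernel
  have hcardN : Nat.card N = 2 * p := by
    have h1 := hNc.card_mul_card
    rw [hcardH, h.card_G, Nat.descFactorial_one] at h1
    have : Nat.card N * s = (2 * p) * s := by rw [h1]; congr 1; omega
    exact Nat.eq_of_mul_eq_mul_right (by omega) this
  -- the solutions of x^p = 1 in N
  set T' : Set G := {x : G | x ∈ N ∧ x ^ p = 1} with hT'
  have hpd : p ∣ T'.ncard :=
    Cfsg.Agent.Helper7.TwoOrb.prime_dvd_ncard_pow_eq_one N p (by rw [hcardN]; exact dvd_mul_left p 2)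
  have hT'N : T' ⊆ (N : Set G) := fun x hx => hx.1
  -- an involution of N
  have h2N : 2 ∣ Nat.card N := by rw [hcardN]; exact dvd_mul_right 2 p
  have : Fact (Nat.Prime 2) := ⟨Nat.prime_two⟩
  obtain ⟨u, hu⟩ := exists_prime_orderOf_dvd_card' 2 h2N
  have huT : (u : G) ∉ T' := by
    rintro ⟨_, hup⟩
    have hdvd : orderOf (u : G) ∣ p := orderOf_dvd_of_pow_eq_one hup
    rw [Subgroup.orderOf_coe, hu] at hdvd
    rcases (Nat.dvd_prime hp).mp hdvd with h1 | h1
    · omega
    · exact hp2 h1.symm
  have hlt : T'.ncard < 2 * p := by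
    have hNn : (N : Set G).ncard = 2 * p := by
      rw [← hcardN]; exact (Nat.card_coe_set_eq (N : Set G)).symm
    rw [← hNn]
    apply Set.ncard_lt_ncard _ (Set.toFinite _)
    exact ⟨hT'N, fun hsub => huT (hsub u.2)⟩
  have hpos : 0 < T'.ncard := by
    rw [Set.ncard_pos (Set.toFinite _)]
    exact ⟨1, N.one_mem, one_pow p⟩
  have hT'card : T'.ncard = p := by
    obtain ⟨k, hk⟩ := hpd
    have hk1 : k = 1 := by
      rcases k with _ | _ | k
      · omega
      · rfl
      · exfalso
        have : p * (k + 1 + 1) ≥ 2 * p := by nlinarith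
        omega
    rw [hk, hk1, mul_one]
  set T : Set G := T' \ {1} with hT
  have hTcard : T.ncard = p - 1 := by
    have h1T : (1 : G) ∈ T' := ⟨N.one_mem, one_pow p⟩
    rw [hT, Set.ncard_diff_singleton_of_mem h1T, hT'card]
  -- free action
  have hdvd : Nat.card H ∣ T.ncard := by
    apply Cfsg.Agent.Helper7.TwoOrb.card_dvd_of_free_conj H T
    · rintro y hy x ⟨⟨hxN, hxp⟩, hx1⟩
      refine ⟨⟨hNn.conj_mem x hxN y, ?_⟩, ?_⟩
      · rw [conj_pow, hxp]; group
      · intro e
        apply hx1
        rw [Set.mem_singleton_iff] at e ⊢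
        have : x = y⁻¹ * (y * x * y⁻¹) * y := by group
        rw [this, e]; group
    · rintro y hy x ⟨⟨hxN, hxp⟩, hx1⟩ e
      have hxk : x ∈ Cfsg.frobeniusKernel H := by rw [← hNk]; exact hxN
      rcases hxk with hx | hx
      · exact absurd hx hx1
      · have hxH : x ∉ H := by
          intro hxH
          apply hx 1
          rw [lw_frob_mem_conj]
          simpa using hxH
        have hint := hF.2.2 x hxH
        have hy' : y ∈ H ⊓ MulAut.conj x • H := by
          refine Subgroup.mem_inf.mpr ⟨hy, ?_⟩
          rw [lw_frob_mem_conj]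
          have : x⁻¹ * y * x = y := by
            have e2 : y * x = x * y := by
              have := congrArg (fun c => c * y) e
              simpa [mul_assoc] using this
            rw [mul_assoc, e2]; group
          rw [this]; exact hy
        rw [hint, Subgroup.mem_bot] at hy'
        exact hy'
  rw [hcardH, hTcard] at hdvd
  exact hsp hdvd

end Cfsg.Agent.LW
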