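import Mathlib

set_option autoImplicit false

/-! S0745/S0746 package P8 (file `Cfsg/Agent/LW/Kantor.lean`): `k`-homogeneous ⇒ `(k-1)`-homogeneous for `2k ≤ n + 1` -/

namespace Cfsg.Agent.LW

open MulAction
open scoped Pointwise

section comb

variable {α : Type*} [Fintype α] [DecidableEq α]

/-- the `i`-subsets of `α` -/
abbrev lwP (α : Type*) [Fintype α] (i : ℕ) : Finset (Finset α) :=
  (Finset.univ : Finset α).powersetCard i

omit [DecidableEq α] in
theorem lw_kantor_mem_P {i : ℕ} {S : Finset α} : S ∈ lwP α i ↔ S.card = i := by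
  rw [Finset.mem_powersetCard]
  exact ⟨fun h => h.2, fun h => ⟨Finset.subset_univ _, h⟩⟩

/-- number of `(j+1)`-sets containing `S` and `S'` -/
def lwA (j : ℕ) (S S' : Finset α) : ℕ :=
  ((lwP α (j + 1)).filter (fun T => S ⊆ T ∧ S' ⊆ T)).card

/-- number of `(j-1)`-sets contained in `S` and `S'` -/
def lwB (j : ℕ) (S S' : Finset α) : ℕ :=
  ((lwP α (j - 1)).filter (fun R => R ⊆ S ∧ R ⊆ S')).card

/-- expansion of the square of the up-sum -/
theorem lw_kantor_expand_up (j : ℕ) (f : Finset α → ℚ) :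
    ∑ T ∈ lwP α (j + 1), (∑ S ∈ lwP α j, if S ⊆ T then f S else 0) ^ 2 =
      ∑ S ∈ lwP α j, ∑ S' ∈ lwP α j, f S * f S' * (lwA j S S' : ℚ) := by
  have h1 : ∀ T : Finset α, (∑ S ∈ lwP α j, if S ⊆ T then f S else 0) ^ 2 =
      ∑ S ∈ lwP α j, ∑ S' ∈ lwP α j, f S * f S' * (if S ⊆ T ∧ S' ⊆ T then 1 else 0) := by
    intro T
    rw [pow_two, Finset.sum_mul_sum]
    apply Finset.sum_congr rfl
    intro S _
    apply Finset.sum_congr rfl
    intro S' _
    by_cases h1 : S ⊆ T <;> by_cases h2 : S' ⊆ T <;> simp [h1, h2]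
  rw [Finset.sum_congr rfl (fun T _ => h1 T), Finset.sum_comm]
  apply Finset.sum_congr rfl
  intro S _
  rw [Finset.sum_comm]
  apply Finset.sum_congr rfl
  intro S' _
  rw [← Finset.mul_sum]
  congr 1
  unfold lwA
  rw [Finset.card_filter]
  push_cast
  rfl

/-- expansion of the square of the down-sum -/
theorem lw_kantor_expand_down (j : ℕ) (f : Finset α → ℚ) :
    ∑ R ∈ lwP α (j - 1), (∑ S ∈ lwP α j, if R ⊆ S then f S else 0) ^ 2 =
      ∑ S ∈ lwP α j, ∑ S' ∈ lwP α j, f S * f S' * (lwB j S S' : ℚ) := by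
  have h1 : ∀ R : Finset α, (∑ S ∈ lwP α j, if R ⊆ S then f S else 0) ^ 2 =
      ∑ S ∈ lwP α j, ∑ S' ∈ lwP α j, f S * f S' * (if R ⊆ S ∧ R ⊆ S' then 1 else 0) := by
    intro R
    rw [pow_two, Finset.sum_mul_sum]
    apply Finset.sum_congr rfl
    intro S _
    apply Finset.sum_congr rfl
    intro S' _
    by_cases h1 : R ⊆ S <;> by_cases h2 : R ⊆ S' <;> simp [h1, h2]
  rw [Finset.sum_congr rfl (fun R _ => h1 R), Finset.sum_comm]
  apply Finset.sum_congr rfl
  intro S _
  rw [Finset.sum_comm]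
  apply Finset.sum_congr rfl
  intro S' _
  rw [← Finset.mul_sum]
  congr 1
  unfold lwB
  rw [Finset.card_filter]
  push_cast
  rfl

theorem lw_kantor_A_diag {j : ℕ} {S : Finset α} (hS : S.card = j) :
    lwA j S S + j = Fintype.card α := by
  unfold lwA
  have h1 : (lwP α (j + 1)).filter (fun T => S ⊆ T ∧ S ⊆ T) =
      (Sᶜ).image (fun a => insert a S) := by
    ext T
    simp only [Finset.mem_filter, lw_kantor_mem_P, Finset.mem_image, Finset.mem_compl, and_self]
    constructor
    · rintro ⟨hT, hST⟩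
      have h2 : (T \ S).card = 1 := by
        rw [Finset.card_sdiff_of_subset hST]; omega
      obtain ⟨a, ha⟩ := Finset.card_eq_one.mp h2
      have h3 : a ∈ T \ S := by rw [ha]; simp
      refine ⟨a, (Finset.mem_sdiff.mp h3).2, ?_⟩
      rw [← Finset.sdiff_union_of_subset hST, ha, Finset.insert_eq]
    · rintro ⟨a, ha, rfl⟩
      exact ⟨by rw [Finset.card_insert_of_notMem ha, hS], Finset.subset_insert _ _⟩
  rw [h1, Finset.card_image_of_injOn, Finset.card_compl, hS]
  · have : j ≤ Fintype.card α := hS ▸ Finset.card_le_univ S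
    omega
  · intro a ha b hb hab
    have ha' : a ∉ S := by simpa using ha
    have h4 : a ∈ insert b S := by
      have : a ∈ insert a S := Finset.mem_insert_self _ _
      simpa [hab] using this
    rcases Finset.mem_insert.mp h4 with h | h
    · exact h
    · exact absurd h ha'

theorem lw_kantor_B_diag {j : ℕ} (hj : 1 ≤ j) {S : Finset α} (hS : S.card = j) :
    lwB j S S = j := by
  unfold lwB
  have h1 : (lwP α (j - 1)).filter (fun R => R ⊆ S ∧ R ⊆ S) = S.powersetCard (j - 1) := by
    ext R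
    simp only [Finset.mem_filter, Finset.mem_powersetCard, and_self]
    constructor
    · rintro ⟨⟨_, h1⟩, h2⟩
      exact ⟨h2, h1⟩
    · rintro ⟨h1, h2⟩
      exact ⟨⟨Finset.subset_univ _, h2⟩, h1⟩
  rw [h1, Finset.card_powersetCard, hS]
  obtain ⟨i, rfl⟩ : ∃ i, j = i + 1 := ⟨j - 1, by omega⟩
  simp

theorem lw_kantor_A_off {j : ℕ} {S S' : Finset α} (hS : S.card = j) (hS' : S'.card = j)
    (hne : S ≠ S') : lwA j S S' = if (S ∪ S').card = j + 1 then 1 else 0 := by
  unfold lwA
  have hge : j + 1 ≤ (S ∪ S').card := by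
    by_contra hlt
    push Not at hlt
    have h1 : S = S ∪ S' :=
      Finset.eq_of_subset_of_card_le Finset.subset_union_left (by omega)
    have h2 : S' ⊆ S := by rw [h1]; exact Finset.subset_union_right
    exact hne (Finset.eq_of_subset_of_card_le h2 (by omega)).symm
  split_ifs with hc
  · have h1 : (lwP α (j + 1)).filter (fun T => S ⊆ T ∧ S' ⊆ T) = {S ∪ S'} := by
      ext T
      simp only [Finset.mem_filter, lw_kantor_mem_P, Finset.mem_singleton]
      constructor
      · rintro ⟨hT, h1, h2⟩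
        exact (Finset.eq_of_subset_of_card_le (Finset.union_subset h1 h2) (by omega)).symm
      · rintro rfl
        exact ⟨hc, Finset.subset_union_left, Finset.subset_union_right⟩
    rw [h1, Finset.card_singleton]
  · rw [Finset.card_eq_zero, Finset.filter_eq_empty_iff]
    rintro T hT ⟨h1, h2⟩
    rw [lw_kantor_mem_P] at hT
    have := Finset.card_le_card (Finset.union_subset h1 h2)
    omega

theorem lw_kantor_B_off {j : ℕ} (hj : 1 ≤ j) {S S' : Finset α} (hS : S.card = j)
    (hS' : S'.card = j) (hne : S ≠ S') :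
    lwB j S S' = if (S ∩ S').card = j - 1 then 1 else 0 := by
  unfold lwB
  have hle : (S ∩ S').card ≤ j - 1 := by
    by_contra hlt
    push Not at hlt
    have h1 : S ∩ S' = S :=
      Finset.eq_of_subset_of_card_le Finset.inter_subset_left (by omega)
    have h2 : S ⊆ S' := by rw [← h1]; exact Finset.inter_subset_right
    exact hne (Finset.eq_of_subset_of_card_le h2 (by omega))
  split_ifs with hc
  · have h1 : (lwP α (j - 1)).filter (fun R => R ⊆ S ∧ R ⊆ S') = {S ∩ S'} := by
      ext R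
      simp only [Finset.mem_filter, lw_kantor_mem_P, Finset.mem_singleton]
      constructor
      · rintro ⟨hR, h1, h2⟩
        exact Finset.eq_of_subset_of_card_le (Finset.subset_inter h1 h2) (by omega)
      · rintro rfl
        exact ⟨hc, Finset.inter_subset_left, Finset.inter_subset_right⟩
    rw [h1, Finset.card_singleton]
  · rw [Finset.card_eq_zero, Finset.filter_eq_empty_iff]
    rintro R hR ⟨h1, h2⟩
    rw [lw_kantor_mem_P] at hR
    have := Finset.card_le_card (Finset.subset_inter h1 h2)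
    omega

/-- the key identity `A = B + (n - 2j) • 1` -/
theorem lw_kantor_A_eq {j : ℕ} (hj : 1 ≤ j) {S S' : Finset α} (hS : S.card = j)
    (hS' : S'.card = j) :
    (lwA j S S' : ℚ) = (lwB j S S' : ℚ) +
      (if S = S' then (Fintype.card α : ℚ) - 2 * (j : ℚ) else 0) := by
  by_cases hne : S = S'
  · subst hne
    rw [if_pos rfl, lw_kantor_B_diag hj hS]
    have := lw_kantor_A_diag hS
    have h2 : (lwA j S S : ℚ) + (j : ℚ) = (Fintype.card α : ℚ) := by exact_mod_cast this
    linarith
  · rw [if_neg hne, add_zero, lw_kantor_A_off hS hS' hne, lw_kantor_B_off hj hS hS' hne]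
    have h1 := Finset.card_union_add_card_inter S S'
    rw [hS, hS'] at h1
    have h2 : (S ∪ S').card = j + 1 ↔ (S ∩ S').card = j - 1 := by omega
    simp only [h2]

/-- injectivity of the up-map below the middle -/
theorem lw_kantor_inj {j : ℕ} (hj : 1 ≤ j) (hjn : 2 * j < Fintype.card α) (f : Finset α → ℚ)
    (h : ∀ T ∈ lwP α (j + 1), (∑ S ∈ lwP α j, if S ⊆ T then f S else 0) = 0) :
    ∀ S ∈ lwP α j, f S = 0 := by
  have e1 := lw_kantor_expand_up j f
  have e2 := lw_kantor_expand_down j f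
  have z1 : ∑ T ∈ lwP α (j + 1), (∑ S ∈ lwP α j, if S ⊆ T then f S else 0) ^ 2 = 0 := by
    apply Finset.sum_eq_zero
    intro T hT
    rw [h T hT]; simp
  have p2 : 0 ≤ ∑ R ∈ lwP α (j - 1), (∑ S ∈ lwP α j, if R ⊆ S then f S else 0) ^ 2 :=
    Finset.sum_nonneg (fun R _ => sq_nonneg _)
  have key : ∑ S ∈ lwP α j, ∑ S' ∈ lwP α j, f S * f S' * (lwA j S S' : ℚ) =
      ∑ S ∈ lwP α j, ∑ S' ∈ lwP α j, f S * f S' * (lwB j S S' : ℚ) +
        ((Fintype.card α : ℚ) - 2 * (j : ℚ)) * ∑ S ∈ lwP α j, f S ^ 2 := by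
    rw [Finset.mul_sum, ← Finset.sum_add_distrib]
    apply Finset.sum_congr rfl
    intro S hS
    have hS' := lw_kantor_mem_P.mp hS
    have h3 : ∀ S' ∈ lwP α j, f S * f S' * (lwA j S S' : ℚ) =
        f S * f S' * (lwB j S S' : ℚ) +
          (if S = S' then f S * f S' * ((Fintype.card α : ℚ) - 2 * (j : ℚ)) else 0) := by
      intro S' hS''
      rw [lw_kantor_A_eq hj hS' (lw_kantor_mem_P.mp hS'')]
      split_ifs <;> ring
    rw [Finset.sum_congr rfl h3, Finset.sum_add_distrib, Finset.sum_ite_eq, if_pos hS]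
    ring
  have hpos : (0 : ℚ) < (Fintype.card α : ℚ) - 2 * (j : ℚ) := by
    have : ((2 * j : ℕ) : ℚ) < (Fintype.card α : ℚ) := by exact_mod_cast hjn
    push_cast at this
    linarith
  have hsq : 0 ≤ ∑ S ∈ lwP α j, f S ^ 2 := Finset.sum_nonneg (fun S _ => sq_nonneg _)
  have hz : ∑ S ∈ lwP α j, f S ^ 2 = 0 := by
    rw [e1, key, ← e2] at z1
    nlinarith
  intro S hS
  have := (Finset.sum_eq_zero_iff_of_nonneg (fun S _ => sq_nonneg (f S))).mp hz S hS
  exact pow_eq_zero_iff (two_ne_zero) |>.mp this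

end comb

section grp

variable {G α : Type*} [Group G] [MulAction G α] [Fintype α] [DecidableEq α]

/-- the up-sum of a `G`-invariant function is `G`-invariant -/
theorem lw_kantor_up_smul (j : ℕ) (f : Finset α → ℚ) (hf : ∀ (g : G) (S : Finset α), f (g • S) = f S)
    (g : G) (T : Finset α) :
    (∑ S ∈ lwP α j, if S ⊆ g • T then f S else 0) =
      ∑ S ∈ lwP α j, if S ⊆ T then f S else 0 := by
  symm
  apply Finset.sum_bij' (fun S _ => g • S) (fun S _ => g⁻¹ • S)
  · intro S _; simp
  · intro S _; simp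
  · intro S _
    simp only [Finset.smul_finset_subset_smul_finset_iff, hf]
  · intro S hS
    rw [lw_kantor_mem_P] at *
    rw [Finset.card_smul_finset]; exact hS
  · intro S hS
    rw [lw_kantor_mem_P] at *
    rw [Finset.card_smul_finset]; exact hS

/-- the number of `j`-subsets of a `(j+1)`-set -/
theorem lw_kantor_up_one {j : ℕ} {T : Finset α} (hT : T.card = j + 1) :
    (∑ S ∈ lwP α j, if S ⊆ T then (1 : ℚ) else 0) = (j : ℚ) + 1 := by
  rw [← Finset.sum_filter, Finset.sum_const, nsmul_eq_mul, mul_one]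
  have h1 : (lwP α j).filter (fun S => S ⊆ T) = T.powersetCard j := by
    ext R
    simp only [Finset.mem_filter, Finset.mem_powersetCard]
    constructor
    · rintro ⟨⟨_, h1⟩, h2⟩
      exact ⟨h2, h1⟩
    · rintro ⟨h1, h2⟩
      exact ⟨⟨Finset.subset_univ _, h2⟩, h1⟩
  rw [h1, Finset.card_powersetCard, hT]
  simp

/-- a `G`-invariant function on `j`-sets is constant, if `G` is transitive on `(j+1)`-sets -/
theorem lw_kantor_const {j : ℕ} (hj : 1 ≤ j) (hjn : 2 * j < Fintype.card α)
    (hh : IsPretransitive G (Set.powersetCard α (j + 1)))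
    (f : Finset α → ℚ) (hf : ∀ (g : G) (S : Finset α), f (g • S) = f S)
    {S S' : Finset α} (hS : S.card = j) (hS' : S'.card = j) : f S = f S' := by
  have hne : (lwP α (j + 1)).Nonempty := by
    rw [Finset.powersetCard_nonempty, Finset.card_univ]; omega
  obtain ⟨T₀, hT₀⟩ := hne
  rw [lw_kantor_mem_P] at hT₀
  set c : ℚ := ∑ S ∈ lwP α j, if S ⊆ T₀ then f S else 0 with hc
  have hconst : ∀ T ∈ lwP α (j + 1), (∑ S ∈ lwP α j, if S ⊆ T then f S else 0) = c := by
    intro T hT
    rw [lw_kantor_mem_P] at hT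
    obtain ⟨g, hg⟩ := hh.exists_smul_eq (Set.powersetCard.ofCard hT₀) (Set.powersetCard.ofCard hT)
    have hg' : g • T₀ = T := by
      have := congrArg Subtype.val hg
      simpa using this
    rw [← hg', lw_kantor_up_smul j f hf]
  set d : ℚ := c / ((j : ℚ) + 1) with hd
  have hj1 : ((j : ℚ) + 1) ≠ 0 := by positivity
  have hz := lw_kantor_inj hj hjn (fun S => f S - d) (by
    intro T hT
    have h1 : ∀ S ∈ lwP α j, (if S ⊆ T then f S - d else 0) =
        (if S ⊆ T then f S else 0) - d * (if S ⊆ T then (1 : ℚ) else 0) := by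
      intro S _
      split_ifs <;> ring
    rw [Finset.sum_congr rfl h1, Finset.sum_sub_distrib, ← Finset.mul_sum, hconst T hT,
      lw_kantor_up_one (lw_kantor_mem_P.mp hT), hd]
    field_simp
    ring)
  have h1 := hz S (lw_kantor_mem_P.mpr hS)
  have h2 := hz S' (lw_kantor_mem_P.mpr hS')
  have h1' : f S - d = 0 := h1
  have h2' : f S' - d = 0 := h2
  linarith

theorem lw_kantor {k : ℕ} (hk : 1 ≤ k) (hkn : 2 * k ≤ Fintype.card α + 1)
    (hh : IsPretransitive G (Set.powersetCard α k)) :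
    IsPretransitive G (Set.powersetCard α (k - 1)) := by
  classical
  rcases Nat.lt_or_ge k 2 with hk2 | hk2
  · -- `k = 1`: the only `0`-set is `∅`
    have hk1 : k = 1 := by omega
    subst hk1
    refine ⟨fun S S' => ⟨1, ?_⟩⟩
    apply Subtype.ext
    have h1 : (S : Finset α) = ∅ := Finset.card_eq_zero.mp S.2
    have h2 : (S' : Finset α) = ∅ := Finset.card_eq_zero.mp S'.2
    rw [one_smul, h1, h2]
  · obtain ⟨j, rfl⟩ : ∃ j, k = j + 1 := ⟨k - 1, by omega⟩
    have hj : 1 ≤ j := by omega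
    have hjn : 2 * j < Fintype.card α := by omega
    rw [Nat.add_sub_cancel]
    refine ⟨fun S S' => ?_⟩
    let f : Finset α → ℚ := fun R => if ∃ g : G, g • (S : Finset α) = R then 1 else 0
    have hf : ∀ (g : G) (R : Finset α), f (g • R) = f R := by
      intro g R
      have : (∃ g' : G, g' • (S : Finset α) = g • R) ↔ ∃ g' : G, g' • (S : Finset α) = R := by
        constructor
        · rintro ⟨g', hg'⟩
          exact ⟨g⁻¹ * g', by rw [mul_smul, hg', inv_smul_smul]⟩
        · rintro ⟨g', hg'⟩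
          exact ⟨g * g', by rw [mul_smul, hg']⟩
      simp only [f, this]
    have h1 := lw_kantor_const hj hjn hh f hf S.2 S'.2
    have h2 : f (S : Finset α) = 1 := by
      simp only [f]
      rw [if_pos ⟨1, one_smul _ _⟩]
    rw [h2] at h1
    have h3 : ∃ g : G, g • (S : Finset α) = (S' : Finset α) := by
      by_contra hcon
      simp only [f] at h1
      rw [if_neg hcon] at h1
      exact one_ne_zero h1
    obtain ⟨g, hg⟩ := h3
    exact ⟨g, Subtype.ext (by rw [Set.powersetCard.coe_smul]; exact hg)⟩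

end grp

end Cfsg.Agent.LW
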