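import Mathlib

set_option autoImplicit false

/-! S0745/S0746 package P4a (file `Cfsg/Agent/LW/Pattern.lean`): double counting of involutions against tuples -/

namespace Cfsg.Agent.LW

open MulAction

variable {G α : Type*} [Group G] [MulAction G α] [Finite G] [Finite α]

/-- double counting for a `d`-transitive action and a conjugation-invariant relation -/
theorem lw_double_count {d : ℕ} (hd : IsMultiplyPretransitive G α d)
    (R : G → (Fin d ↪ α) → Prop)
    (hR : ∀ (g a : G) (y : Fin d ↪ α), R a y → R (g * a * g⁻¹) (g • y)) (y₀ : Fin d ↪ α) :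
    Nat.card {p : G × (Fin d ↪ α) // R p.1 p.2} =
      (Nat.card α).descFactorial d * Nat.card {a : G // R a y₀} := by
  classical
  haveI : Fintype α := Fintype.ofFinite α
  haveI : IsPretransitive G (Fin d ↪ α) := hd
  have hex : ∀ y : Fin d ↪ α, ∃ g : G, g • y₀ = y := fun y => exists_smul_eq G y₀ y
  choose γ hγ using hex
  have hcardE : Nat.card (Fin d ↪ α) = (Nat.card α).descFactorial d := by
    rw [Nat.card_eq_fintype_card, Fintype.card_embedding_eq, Fintype.card_fin,
      Nat.card_eq_fintype_card]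
  let e : {p : G × (Fin d ↪ α) // R p.1 p.2} ≃ (Fin d ↪ α) × {a : G // R a y₀} :=
    { toFun := fun p => (p.1.2, ⟨(γ p.1.2)⁻¹ * p.1.1 * (γ p.1.2), by
        have h := hR (γ p.1.2)⁻¹ p.1.1 p.1.2 p.2
        have e1 : (γ p.1.2)⁻¹ • p.1.2 = y₀ := by
          rw [inv_smul_eq_iff]; exact (hγ p.1.2).symm
        rw [e1, inv_inv] at h
        exact h⟩)
      invFun := fun q => ⟨(γ q.1 * q.2.1 * (γ q.1)⁻¹, q.1), by
        have h := hR (γ q.1) q.2.1 y₀ q.2.2
        rw [hγ q.1] at h
        exact h⟩
      left_inv := by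
        rintro ⟨⟨a, y⟩, h⟩
        apply Subtype.ext
        simp only [Prod.mk.injEq, and_true]
        group
      right_inv := by
        rintro ⟨y, ⟨a, h⟩⟩
        simp only [Prod.mk.injEq, true_and]
        apply Subtype.ext
        simp only
        group }
  rw [Nat.card_congr e, Nat.card_prod, hcardE]

theorem lw_pattern_inj4 {β : Type*} {x0 x1 x2 x3 : β} (h01 : x0 ≠ x1) (h02 : x0 ≠ x2)
    (h03 : x0 ≠ x3) (h12 : x1 ≠ x2) (h13 : x1 ≠ x3) (h23 : x2 ≠ x3) :
    Function.Injective ![x0, x1, x2, x3] := by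
  intro i j hij
  fin_cases i <;> fin_cases j <;> simp_all

/-- an involution applied twice -/
theorem lw_pattern_smul_smul (a : G) (ha : a * a = 1) (x : α) : a • a • x = x := by
  rw [smul_smul, ha, one_smul]

theorem lw_pattern_card_fixed [Fintype α] [DecidableEq α] (a : G) :
    (Finset.univ.filter (fun x : α => a • x = x)).card = (fixedBy α a).ncard := by
  have : fixedBy α a = ((Finset.univ.filter (fun x : α => a • x = x) : Finset α) : Set α) := by
    ext x
    simp [mem_fixedBy]
  rw [this, Set.ncard_coe_finset]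

theorem lw_pattern_card_moved [Fintype α] [DecidableEq α] (a : G) :
    (Finset.univ.filter (fun x : α => a • x ≠ x)).card =
      Nat.card α - (fixedBy α a).ncard := by
  have e : Finset.univ.filter (fun x : α => a • x ≠ x) =
      Finset.univ \ Finset.univ.filter (fun x : α => a • x = x) := by
    ext x
    simp
  rw [e, Finset.card_univ_sdiff, lw_pattern_card_fixed, Nat.card_eq_fintype_card]

/-- for an involution `a` with `f` fixed points on `n` points: the number of 4-tuples
`(y₀, a y₀, y₂, a y₂)` of distinct points is `(n - f)(n - f - 2)` -/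
theorem lw_pattern02_count (a : G) (ha : a * a = 1) :
    Nat.card {y : Fin 4 ↪ α // a • y 0 = y 1 ∧ a • y 2 = y 3} =
      (Nat.card α - (fixedBy α a).ncard) * (Nat.card α - (fixedBy α a).ncard - 2) := by
  classical
  haveI : Fintype α := Fintype.ofFinite α
  have haa := lw_pattern_smul_smul (α := α) a ha
  obtain ⟨Mv, hMv⟩ : ∃ Mv : Finset α, Mv = Finset.univ.filter (fun x : α => a • x ≠ x) :=
    ⟨_, rfl⟩
  have hMvc : Mv.card = Nat.card α - (fixedBy α a).ncard := by
    rw [hMv]; exact lw_pattern_card_moved a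
  have hmemMv : ∀ x, x ∈ Mv ↔ a • x ≠ x := fun x => by simp [hMv]
  let T : Finset (Σ _ : α, α) := Mv.sigma (fun u => (Mv.erase u).erase (a • u))
  have hT : ∀ u v : α, (⟨u, v⟩ : Σ _ : α, α) ∈ T ↔
      a • u ≠ u ∧ a • v ≠ v ∧ v ≠ u ∧ v ≠ a • u := by
    intro u v
    simp only [T, Finset.mem_sigma, Finset.mem_erase, hmemMv]
    tauto
  have hcardT : T.card = Mv.card * (Mv.card - 2) := by
    rw [Finset.card_sigma]
    rw [Finset.sum_const_nat (m := Mv.card - 2)]
    intro u hu
    have hu' := (hmemMv u).mp hu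
    have h1 : a • u ∈ Mv.erase u := by
      rw [Finset.mem_erase]
      refine ⟨hu', (hmemMv _).mpr ?_⟩
      rw [haa]
      exact fun h => hu' h.symm
    rw [Finset.card_erase_of_mem h1, Finset.card_erase_of_mem hu]
    omega
  let e : {y : Fin 4 ↪ α // a • y 0 = y 1 ∧ a • y 2 = y 3} ≃ ↥T :=
    { toFun := fun y => ⟨⟨y.1 0, y.1 2⟩, by
        rw [hT]
        obtain ⟨y, h01, h23⟩ := y
        refine ⟨?_, ?_, ?_, ?_⟩
        · show a • y 0 ≠ y 0
          rw [h01]
          exact fun h => by simpa using y.injective h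
        · show a • y 2 ≠ y 2
          rw [h23]
          exact fun h => by simpa using y.injective h
        · exact fun h => by simpa using y.injective h
        · show y 2 ≠ a • y 0
          rw [h01]
          exact fun h => by simpa using y.injective h⟩
      invFun := fun s => ⟨⟨![s.1.1, a • s.1.1, s.1.2, a • s.1.2], by
          obtain ⟨⟨u, v⟩, hs⟩ := s
          rw [hT] at hs
          obtain ⟨hu, hv, hvu, hvau⟩ := hs
          have h1 : u ≠ a • v := fun h => hvau (by rw [h, haa])
          have h2 : a • u ≠ a • v := fun h => hvu (smul_left_cancel a h).symm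
          exact lw_pattern_inj4 (Ne.symm hu) (Ne.symm hvu) h1 (Ne.symm hvau) h2 (Ne.symm hv)⟩,
          ⟨rfl, rfl⟩⟩
      left_inv := by
        rintro ⟨y, h01, h23⟩
        apply Subtype.ext
        apply DFunLike.ext
        intro i
        fin_cases i <;> simp [h01, h23]
      right_inv := by
        rintro ⟨⟨u, v⟩, hs⟩
        rfl }
  rw [Nat.card_congr e, Nat.card_eq_fintype_card, Fintype.card_coe, hcardT, hMvc]

/-- ... and the number of 4-tuples `(y₀, y₁, y₂, a y₂)` with `y₀, y₁` fixed is `f (f-1) (n-f)` -/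
theorem lw_pattern21_count (a : G) (ha : a * a = 1) :
    Nat.card {y : Fin 4 ↪ α // a • y 0 = y 0 ∧ a • y 1 = y 1 ∧ a • y 2 = y 3} =
      (fixedBy α a).ncard * ((fixedBy α a).ncard - 1) * (Nat.card α - (fixedBy α a).ncard) := by
  classical
  haveI : Fintype α := Fintype.ofFinite α
  have haa := lw_pattern_smul_smul (α := α) a ha
  obtain ⟨Mv, hMv⟩ : ∃ Mv : Finset α, Mv = Finset.univ.filter (fun x : α => a • x ≠ x) :=
    ⟨_, rfl⟩
  obtain ⟨Fx, hFx⟩ : ∃ Fx : Finset α, Fx = Finset.univ.filter (fun x : α => a • x = x) :=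
    ⟨_, rfl⟩
  have hMvc : Mv.card = Nat.card α - (fixedBy α a).ncard := by
    rw [hMv]; exact lw_pattern_card_moved a
  have hFxc : Fx.card = (fixedBy α a).ncard := by
    rw [hFx]; exact lw_pattern_card_fixed a
  have hmemMv : ∀ x, x ∈ Mv ↔ a • x ≠ x := fun x => by simp [hMv]
  have hmemFx : ∀ x, x ∈ Fx ↔ a • x = x := fun x => by simp [hFx]
  let T : Finset (Σ _ : α, α × α) := Fx.sigma (fun u => (Fx.erase u) ×ˢ Mv)
  have hT : ∀ (u w v : α), (⟨u, (w, v)⟩ : Σ _ : α, α × α) ∈ T ↔
      a • u = u ∧ a • w = w ∧ w ≠ u ∧ a • v ≠ v := by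
    intro u w v
    simp only [T, Finset.mem_sigma, Finset.mem_product, Finset.mem_erase, hmemMv, hmemFx]
    tauto
  have hcardT : T.card = Fx.card * ((Fx.card - 1) * Mv.card) := by
    rw [Finset.card_sigma]
    rw [Finset.sum_const_nat (m := (Fx.card - 1) * Mv.card)]
    intro u hu
    rw [Finset.card_product, Finset.card_erase_of_mem hu]
  let e : {y : Fin 4 ↪ α // a • y 0 = y 0 ∧ a • y 1 = y 1 ∧ a • y 2 = y 3} ≃ ↥T :=
    { toFun := fun y => ⟨⟨y.1 0, (y.1 1, y.1 2)⟩, by
        rw [hT]
        obtain ⟨y, h0, h1, h23⟩ := y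
        refine ⟨h0, h1, ?_, ?_⟩
        · exact fun h => by simpa using y.injective h
        · show a • y 2 ≠ y 2
          rw [h23]
          exact fun h => by simpa using y.injective h⟩
      invFun := fun s => ⟨⟨![s.1.1, s.1.2.1, s.1.2.2, a • s.1.2.2], by
          obtain ⟨⟨u, w, v⟩, hs⟩ := s
          rw [hT] at hs
          obtain ⟨hu, hw, hwu, hv⟩ := hs
          have h1 : u ≠ v := fun h => hv (h ▸ hu)
          have h2 : w ≠ v := fun h => hv (h ▸ hw)
          have h3 : u ≠ a • v := fun h => h1 (by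
            have := congrArg (fun x => a • x) h
            simp only [haa, hu] at this
            exact this)
          have h4 : w ≠ a • v := fun h => h2 (by
            have := congrArg (fun x => a • x) h
            simp only [haa, hw] at this
            exact this)
          exact lw_pattern_inj4 (Ne.symm hwu) h1 h3 h2 h4 (Ne.symm hv)⟩, by
        obtain ⟨⟨u, w, v⟩, hs⟩ := s
        rw [hT] at hs
        obtain ⟨hu, hw, hwu, hv⟩ := hs
        exact ⟨hu, hw, rfl⟩⟩
      left_inv := by
        rintro ⟨y, h0, h1, h23⟩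
        apply Subtype.ext
        apply DFunLike.ext
        intro i
        fin_cases i <;> simp [h23]
      right_inv := by
        rintro ⟨⟨u, w, v⟩, hs⟩
        rfl }
  rw [Nat.card_congr e, Nat.card_eq_fintype_card, Fintype.card_coe, hcardT, hMvc, hFxc,
    mul_assoc]

end Cfsg.Agent.LW
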