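import Mathlib
import Cfsg.Agent.LW.Defs
import Cfsg.Agent.LW.Orders

set_option autoImplicit false

/-! S0745/S0746 package P0 (file `Cfsg/Agent/LW/SharpBasic.lean`): basic consequences of `Sharp` -/

namespace Cfsg.Agent.LW

open MulAction

variable {G α : Type*} [Group G] [MulAction G α] [Finite G] [Finite α] {t s m : ℕ}

/-- the number of injective `t`-tuples -/
theorem lw_sharpBasic_card_emb (β : Type*) [Finite β] (k : ℕ) :
    Nat.card (Fin k ↪ β) = (Nat.card β).descFactorial k := by
  classical
  haveI := Fintype.ofFinite β
  rw [Nat.card_eq_fintype_card, Fintype.card_embedding_eq, Fintype.card_fin,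
    Nat.card_eq_fintype_card]

/-- an element fixing all entries of a `k`-tuple and one more point has at least `k + 1` fixed points -/
theorem lw_sharpBasic_fixedBy_ncard {k : ℕ} (g : G) (x : Fin k ↪ α) (y : α)
    (hx : ∀ i, g • x i = x i) (hy : g • y = y) (hyx : y ∉ Set.range x) :
    k + 1 ≤ (fixedBy α g).ncard := by
  have hsub : insert y (Set.range x) ⊆ fixedBy α g := by
    intro w hw
    rcases Set.mem_insert_iff.mp hw with rfl | ⟨i, rfl⟩
    · exact hy
    · exact hx i
  have hcard : (insert y (Set.range x)).ncard = k + 1 := by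
    rw [Set.ncard_insert_of_notMem hyx (Set.toFinite _),
      Set.ncard_range_of_injective x.injective, Nat.card_fin]
  rw [← hcard]
  exact Set.ncard_le_ncard hsub (Set.toFinite _)

/-- the stabiliser of any `t`-tuple has order `s` -/
theorem lw_sharp_card_stab (h : Sharp G α t s m) (x : Fin t ↪ α) :
    Nat.card (stabilizer G x) = s := by
  haveI := h.trans
  have h1 : (stabilizer G x).index = Nat.card (Fin t ↪ α) := index_stabilizer_of_transitive G x
  have h2 := (stabilizer G x).index_mul_card
  rw [h1, lw_sharpBasic_card_emb, h.card_α, h.card_G] at h2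
  have hpos : 0 < (t + m).descFactorial t := by
    rw [Nat.pos_iff_ne_zero, Ne, Nat.descFactorial_eq_zero_iff_lt]
    omega
  exact Nat.eq_of_mul_eq_mul_left hpos h2

theorem lw_sharp_pos (h : Sharp G α t s m) : 0 < s := by
  rw [Nat.pos_iff_ne_zero]
  intro h0
  have h1 := h.card_G
  rw [h0, mul_zero] at h1
  exact (Nat.card_pos (α := G)).ne' h1

/-- `s` divides `m` (the `t`-point stabiliser is semiregular on the other `m` points) -/
theorem lw_sharp_dvd (h : Sharp G α t s m) : s ∣ m := by
  classical
  haveI := Fintype.ofFinite α
  have hcardα : Fintype.card α = t + m := by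
    rw [← Nat.card_eq_fintype_card]; exact h.card_α
  have hle : Fintype.card (Fin t) ≤ Fintype.card α := by
    rw [Fintype.card_fin, hcardα]; omega
  obtain ⟨x⟩ := Function.Embedding.nonempty_of_card_le hle
  have hK : ∀ g : stabilizer G x, ∀ i, (g : G) • x i = x i := by
    intro g i
    have h1 : (g : G) • x = x := g.2
    have h2 := DFunLike.congr_fun h1 i
    rwa [Function.Embedding.smul_apply] at h2
  let S : Finset α := (Finset.map x Finset.univ)ᶜ
  have hSmem : ∀ y, y ∈ S ↔ y ∉ Set.range x := by
    intro y
    simp only [S, Finset.mem_compl, Finset.mem_map, Finset.mem_univ, true_and, Set.mem_range]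
  have hSinv : ∀ (g : stabilizer G x) (y : α), y ∈ S → g • y ∈ S := by
    intro g y hy
    rw [hSmem] at hy ⊢
    rintro ⟨i, hi⟩
    apply hy
    refine ⟨i, ?_⟩
    have h1 : (g : G) • y = x i := hi.symm
    have h2 : y = (g : G)⁻¹ • x i := by rw [← h1, inv_smul_smul]
    rw [h2]
    have h3 := hK g⁻¹ i
    rw [Subgroup.coe_inv] at h3
    exact h3.symm
  have hu : ∀ y ∈ S, Nat.card (orbit (stabilizer G x) y) = s := by
    intro y hy
    rw [hSmem] at hy
    have hstab : stabilizer (stabilizer G x) y = ⊥ := by
      rw [eq_bot_iff]
      intro k hk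
      rw [Subgroup.mem_bot]
      have hky : (k : G) • y = y := hk
      have h1 := h.fix (k : G) (lw_sharpBasic_fixedBy_ncard (k : G) x y (hK k) hky hy)
      exact Subtype.ext h1
    rw [Nat.card_coe_set_eq, ← index_stabilizer, hstab, Subgroup.index_bot]
    exact lw_sharp_card_stab h x
  have hdvd := lw_orbit_dvd (H := stabilizer G x) S hSinv s hu
  have hScard : S.card = m := by
    simp only [S]
    rw [Finset.card_compl, Finset.card_map, Finset.card_univ, Fintype.card_fin, hcardα]
    omega
  rw [hScard] at hdvd
  exact hdvd

/-- one-point descent -/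
theorem lw_sharp_stab (h : Sharp G α (t + 1) s m) (a : α) :
    Sharp (stabilizer G a) (SubMulAction.ofStabilizer G a) t s m := by
  haveI := h.trans
  haveI hpre : IsPretransitive G α := by
    rw [← is_one_pretransitive_iff]
    exact isMultiplyPretransitive_of_le (n := t + 1) (by omega) (by rw [h.card_α]; omega)
  refine ⟨?_, ?_, ?_, ?_⟩
  · exact (SubMulAction.ofStabilizer.isMultiplyPretransitive (a := a)).mp h.trans
  · rw [SubMulAction.nat_card_ofStabilizer_eq, h.card_α]
    omega
  · have h1 : (stabilizer G a).index = Nat.card α := index_stabilizer_of_transitive G a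
    have h2 := (stabilizer G a).index_mul_card
    rw [h1, h.card_α, h.card_G] at h2
    have h3 : t + 1 + m = (t + m) + 1 := by omega
    rw [h3, Nat.succ_descFactorial_succ, mul_assoc] at h2
    exact Nat.eq_of_mul_eq_mul_left (by omega) h2
  · intro g hg
    have hfix : t + 1 + 1 ≤ (fixedBy α (g : G)).ncard := by
      have hsub : insert a (Subtype.val '' (fixedBy (SubMulAction.ofStabilizer G a) g)) ⊆
          fixedBy α (g : G) := by
        intro w hw
        rcases Set.mem_insert_iff.mp hw with rfl | ⟨y, hy, rfl⟩
        · exact g.2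
        · have h1 : g • y = y := hy
          have h2 := congrArg Subtype.val h1
          exact h2
      have hnot : a ∉ Subtype.val '' (fixedBy (SubMulAction.ofStabilizer G a) g) :=
        SubMulAction.notMem_val_image G _
      have hcard : (insert a (Subtype.val '' (fixedBy (SubMulAction.ofStabilizer G a) g))).ncard =
          (fixedBy (SubMulAction.ofStabilizer G a) g).ncard + 1 := by
        rw [Set.ncard_insert_of_notMem hnot (Set.toFinite _),
          Set.ncard_image_of_injective _ Subtype.val_injective]
      have h4 := Set.ncard_le_ncard hsub (Set.toFinite _)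
      rw [hcard] at h4
      omega
    exact Subtype.ext (h.fix (g : G) hfix)

/-- a sharply `(t+1)`-transitive group, seen as a `t`-transitive group -/
theorem lw_sharp_reindex (h : Sharp G α (t + 1) 1 m) : Sharp G α t (m + 1) (m + 1) := by
  classical
  haveI := h.trans
  haveI := Fintype.ofFinite α
  refine ⟨?_, ?_, ?_, ?_⟩
  · exact isMultiplyPretransitive_of_le (n := t + 1) (by omega) (by rw [h.card_α]; omega)
  · rw [h.card_α]; omega
  · rw [h.card_G, mul_one, Nat.descFactorial_succ]
    have h3 : t + 1 + m = t + (m + 1) := by omega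
    rw [h3]
    have h4 : t + (m + 1) - t = m + 1 := by omega
    rw [h4, mul_comm]
  · intro g hg
    -- choose `t + 1` fixed points
    let F : Finset α := Finset.univ.filter (fun y => g • y = y)
    have hFcoe : (F : Set α) = fixedBy α g := by
      ext y
      simp [F, mem_fixedBy]
    have hFcard : t + 1 ≤ F.card := by
      rw [← Set.ncard_coe_finset, hFcoe]
      exact hg
    obtain ⟨T, hTF, hTcard⟩ := Finset.exists_subset_card_eq hFcard
    let e : T ≃ Fin (t + 1) := Finset.equivFinOfCardEq hTcard
    let x : Fin (t + 1) ↪ α := e.symm.toEmbedding.trans (Function.Embedding.subtype _)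
    have hx : ∀ i, g • x i = x i := by
      intro i
      have h1 : x i ∈ F := hTF (e.symm i).2
      simp only [F, Finset.mem_filter, Finset.mem_univ, true_and] at h1
      exact h1
    have hgmem : g ∈ stabilizer G x := by
      rw [mem_stabilizer_iff]
      ext i
      rw [Function.Embedding.smul_apply]
      exact hx i
    have hcard := lw_sharp_card_stab h x
    have hbot : stabilizer G x = ⊥ := Subgroup.card_eq_one.mp hcard
    rw [hbot, Subgroup.mem_bot] at hgmem
    exact hgmem

end Cfsg.Agent.LW
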