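import Mathlib
import Cfsg.Agent.LW.SharpBasic
import Cfsg.Agent.LW.Pattern

set_option autoImplicit false
set_option linter.unusedSectionVars false
set_option linter.unusedVariables false

/-! S0745/S0746 package P4b (file `Cfsg/Agent/LW/Level4a.lean`): involutions in a 4-transitive group with odd semiregular 4-point stabiliser -/

namespace Cfsg.Agent.LW

open MulAction

variable {G α : Type*} [Group G] [MulAction G α] [Finite G] [Finite α] {s m : ℕ}

/-- a set with at least `d` elements contains the image of an injective `d`-tuple -/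
theorem lw_l4_emb_of_le {S : Set α} {d : ℕ} (hd : d ≤ S.ncard) :
    ∃ y : Fin d ↪ α, ∀ i, y i ∈ S := by
  classical
  have : Fintype S := Fintype.ofFinite S
  have hc : Fintype.card (Fin d) ≤ Fintype.card S := by
    rw [Fintype.card_fin, ← Nat.card_eq_fintype_card, Nat.card_coe_set_eq]
    exact hd
  obtain ⟨e⟩ := Function.Embedding.nonempty_of_card_le hc
  exact ⟨e.trans (Function.Embedding.subtype _), fun i => (e i).2⟩

theorem lw_l4_inv_mul_self {a : G} (ha : orderOf a = 2) : a * a = 1 := by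
  have := pow_orderOf_eq_one a
  rw [ha, pow_two] at this
  exact this

theorem lw_l4_inv_ne_one {a : G} (ha : orderOf a = 2) : a ≠ 1 := by
  rintro rfl
  simp at ha

theorem lw_l4_inv_inv {a : G} (ha : orderOf a = 2) : a⁻¹ = a :=
  inv_eq_of_mul_eq_one_left (lw_l4_inv_mul_self ha)

/-- an element of the stabiliser of a 4-tuple has order dividing `s` -/
theorem lw_l4_pow_s (h : Sharp G α 4 s m) (y : Fin 4 ↪ α) {w : G} (hw : w ∈ stabilizer G y) :
    w ^ s = 1 := by
  have h1 := lw_sharp_card_stab h y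
  have h2 : (⟨w, hw⟩ : stabilizer G y) ^ s = 1 := by
    rw [← h1]; exact pow_card_eq_one'
  have := congrArg Subtype.val h2
  simpa using this

theorem lw_l4_mem_stab_iff (y : Fin 4 ↪ α) (w : G) :
    w ∈ stabilizer G y ↔ ∀ i, w • y i = y i := by
  rw [mem_stabilizer_iff]
  constructor
  · intro h i
    have := congrArg (fun z : Fin 4 ↪ α => z i) h
    simpa using this
  · intro h
    ext i
    simpa using h i

/-- an involution fixes at most 3 points -/
theorem lw_l4_fix_le (h : Sharp G α 4 s m) (hs : Odd s) {a : G} (ha : orderOf a = 2) :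
    (fixedBy α a).ncard ≤ 3 := by
  by_contra hcon
  push Not at hcon
  obtain ⟨y, hy⟩ := lw_l4_emb_of_le (S := fixedBy α a) (d := 4) hcon
  have hmem : a ∈ stabilizer G y := (lw_l4_mem_stab_iff y a).2 fun i => hy i
  have h1 := lw_l4_pow_s h y hmem
  have h2 : orderOf a ∣ s := orderOf_dvd_of_pow_eq_one h1
  rw [ha] at h2
  exact (Nat.not_even_iff_odd.2 hs) (even_iff_two_dvd.2 h2)

/-- the number of fixed points of an involution has the parity of `m` -/
theorem lw_l4_parity (h : Sharp G α 4 s m) {a : G} (ha : orderOf a = 2) :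
    Even (m + (fixedBy α a).ncard) := by
  classical
  have hp : IsPGroup 2 (Subgroup.zpowers a) := by
    apply IsPGroup.of_card (n := 1)
    rw [Nat.card_zpowers, ha, pow_one]
  have := Fact.mk Nat.prime_two
  have h1 := hp.card_modEq_card_fixedPoints α
  have h2 : (fixedPoints (Subgroup.zpowers a) α) = fixedBy α a := by
    ext x
    simp only [mem_fixedPoints, mem_fixedBy]
    constructor
    · intro hx
      exact hx ⟨a, Subgroup.mem_zpowers a⟩
    · rintro hx ⟨g, hg⟩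
      obtain ⟨k, rfl⟩ := Subgroup.mem_zpowers_iff.1 hg
      change a ^ k • x = x
      exact mem_fixedBy_zpow (mem_fixedBy.2 hx) k
  rw [h2, Nat.card_coe_set_eq, h.card_α] at h1
  have h3 : (4 + m) % 2 = (fixedBy α a).ncard % 2 := h1
  rw [Nat.even_iff]
  omega


/-- every involutory action on the entries of a 4-tuple is induced by an involution -/
theorem lw_l4_exists_inv (h : Sharp G α 4 s m) (hs : Odd s) (y : Fin 4 ↪ α)
    (σ : Equiv.Perm (Fin 4)) (hσ : ∀ i, σ (σ i) = i) (hσ1 : ∃ i, σ i ≠ i) :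
    ∃ a : G, orderOf a = 2 ∧ ∀ i, a • y i = y (σ i) := by
  have := h.trans
  obtain ⟨g, hg⟩ := exists_smul_eq G y (σ.toEmbedding.trans y)
  have hg' : ∀ i, g • y i = y (σ i) := fun i => by
    have := congrArg (fun z : Fin 4 ↪ α => z i) hg
    simpa using this
  have hg2 : g * g ∈ stabilizer G y := (lw_l4_mem_stab_iff y _).2 fun i => by
    rw [mul_smul, hg', hg', hσ]
  obtain ⟨j, hj⟩ := hs
  have hpow : (g * g) ^ s = 1 := lw_l4_pow_s h y hg2
  have hgj : ∀ i, (g * g) ^ j • y i = y i := fun i =>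
    (lw_l4_mem_stab_iff y _).1 (Subgroup.pow_mem _ hg2 j) i
  have hgs : g ^ s = (g * g) ^ j * g := by rw [hj, pow_succ, pow_mul, pow_two]
  have hact : ∀ i, g ^ s • y i = y (σ i) := fun i => by
    rw [hgs, mul_smul, hg', hgj]
  refine ⟨g ^ s, ?_, hact⟩
  have := Fact.mk Nat.prime_two
  apply orderOf_eq_prime
  · rw [← pow_mul, mul_comm, pow_mul, pow_two]; exact hpow
  · intro h1
    obtain ⟨i, hi⟩ := hσ1
    have h2 := hact i
    rw [h1, one_smul] at h2
    exact hi (y.injective h2).symm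

/-- every prescribed action of shape `(y₀)(y₁)(y₂ y₃)` is realised by an involution -/
theorem lw_l4_exists21 (h : Sharp G α 4 s m) (hs : Odd s) (y : Fin 4 ↪ α) :
    ∃ a : G, orderOf a = 2 ∧ a • y 0 = y 0 ∧ a • y 1 = y 1 ∧ a • y 2 = y 3 := by
  obtain ⟨a, ha, hact⟩ := lw_l4_exists_inv h hs y (Equiv.swap 2 3) (by decide) ⟨2, by decide⟩
  refine ⟨a, ha, ?_, ?_, ?_⟩
  · have := hact 0
    rwa [show (Equiv.swap (2 : Fin 4) 3) 0 = 0 by decide] at this
  · have := hact 1
    rwa [show (Equiv.swap (2 : Fin 4) 3) 1 = 1 by decide] at this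
  · have := hact 2
    rwa [show (Equiv.swap (2 : Fin 4) 3) 2 = 3 by decide] at this

/-- every prescribed action of shape `(y₀ y₁)(y₂ y₃)` is realised by an involution -/
theorem lw_l4_exists02 (h : Sharp G α 4 s m) (hs : Odd s) (y : Fin 4 ↪ α) :
    ∃ a : G, orderOf a = 2 ∧ a • y 0 = y 1 ∧ a • y 2 = y 3 := by
  obtain ⟨a, ha, hact⟩ := lw_l4_exists_inv h hs y (Equiv.swap 0 1 * Equiv.swap 2 3)
    (by decide) ⟨2, by decide⟩
  refine ⟨a, ha, ?_, ?_⟩
  · have := hact 0
    rwa [show (Equiv.swap (0 : Fin 4) 1 * Equiv.swap 2 3 : Equiv.Perm (Fin 4)) 0 = 1 by decide] at this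
  · have := hact 2
    rwa [show (Equiv.swap (0 : Fin 4) 1 * Equiv.swap 2 3 : Equiv.Perm (Fin 4)) 2 = 3 by decide] at this



/-- an involution swapping `x` and `x'` -/
theorem lw_l4_inv_swap {a : G} (ha : orderOf a = 2) {x x' : α} (hx : a • x = x') : a • x' = x := by
  rw [← hx, ← mul_smul, lw_l4_inv_mul_self ha, one_smul]

/-- two involutions inducing the same `(y₀ y₁)(y₂ y₃)` are conjugate under the stabiliser of `y` -/
theorem lw_l4_conj_stab (h : Sharp G α 4 s m) (hs : Odd s) (y : Fin 4 ↪ α) {a b : G}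
    (ha : orderOf a = 2) (hb : orderOf b = 2) (ha0 : a • y 0 = y 1) (ha2 : a • y 2 = y 3)
    (hb0 : b • y 0 = y 1) (hb2 : b • y 2 = y 3) :
    ∃ κ ∈ stabilizer G y, b = κ * a * κ⁻¹ := by
  have ha1 := lw_l4_inv_swap ha ha0
  have ha3 := lw_l4_inv_swap ha ha2
  have hb1 := lw_l4_inv_swap hb hb0
  have hb3 := lw_l4_inv_swap hb hb2
  have haa := lw_l4_inv_mul_self ha
  have hbb := lw_l4_inv_mul_self hb
  have hw : a * b ∈ stabilizer G y := (lw_l4_mem_stab_iff y _).2 fun i => by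
    fin_cases i
    · change (a * b) • y 0 = y 0
      rw [mul_smul, hb0, ha1]
    · change (a * b) • y 1 = y 1
      rw [mul_smul, hb1, ha0]
    · change (a * b) • y 2 = y 2
      rw [mul_smul, hb2, ha3]
    · change (a * b) • y 3 = y 3
      rw [mul_smul, hb3, ha2]
  have hws := lw_l4_pow_s h y hw
  obtain ⟨j, hj⟩ := hs
  have hsc : SemiconjBy a (a * b) (a * b)⁻¹ := by
    change a * (a * b) = (a * b)⁻¹ * a
    rw [mul_inv_rev, lw_l4_inv_inv ha, lw_l4_inv_inv hb, ← mul_assoc, haa, one_mul, mul_assoc,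
      haa, mul_one]
  have hsc' := hsc.pow_right (j + 1)
  refine ⟨((a * b) ^ (j + 1))⁻¹, Subgroup.inv_mem _ (Subgroup.pow_mem _ hw _), ?_⟩
  rw [inv_inv, mul_assoc, hsc'.eq, ← mul_assoc, inv_pow, ← mul_inv_rev, ← pow_add]
  have : j + 1 + (j + 1) = s + 1 := by omega
  rw [this, pow_succ, hws, one_mul, mul_inv_rev, lw_l4_inv_inv ha, lw_l4_inv_inv hb, mul_assoc,
    haa, mul_one]

/-- an involution has two different 2-cycles -/
theorem lw_l4_exists_tuple (h : Sharp G α 4 s m) (hs : Odd s) (hm : 3 ≤ m) {a : G}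
    (ha : orderOf a = 2) : ∃ y : Fin 4 ↪ α, a • y 0 = y 1 ∧ a • y 2 = y 3 := by
  have h1 := lw_pattern02_count (α := α) a (lw_l4_inv_mul_self ha)
  have h2 := lw_l4_fix_le h hs ha
  have h3 := h.card_α
  have hpos : 0 < Nat.card {y : Fin 4 ↪ α // a • y 0 = y 1 ∧ a • y 2 = y 3} := by
    rw [h1, h3]
    apply Nat.mul_pos <;> omega
  obtain ⟨⟨y, hy⟩⟩ := (Nat.card_pos_iff.1 hpos).1
  exact ⟨y, hy⟩

theorem lw_l4_orderOf_conj (g a : G) : orderOf (g * a * g⁻¹) = orderOf a := by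
  have := orderOf_injective (MulAut.conj g).toMonoidHom (MulAut.conj g).injective a
  simpa using this

/-- all involutions are conjugate -/
theorem lw_l4_conj (h : Sharp G α 4 s m) (hs : Odd s) (hm : 3 ≤ m) {a b : G}
    (ha : orderOf a = 2) (hb : orderOf b = 2) : ∃ g : G, b = g * a * g⁻¹ := by
  obtain ⟨ya, hya0, hya2⟩ := lw_l4_exists_tuple h hs hm ha
  obtain ⟨yb, hyb0, hyb2⟩ := lw_l4_exists_tuple h hs hm hb
  have := h.trans
  obtain ⟨g, hg⟩ := exists_smul_eq G ya yb
  have hg' : ∀ i, g • ya i = yb i := fun i => by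
    have := congrArg (fun z : Fin 4 ↪ α => z i) hg
    simpa using this
  have hg'' : ∀ i, g⁻¹ • yb i = ya i := fun i => by
    rw [← hg', inv_smul_smul]
  have ha' : orderOf (g * a * g⁻¹) = 2 := by rw [lw_l4_orderOf_conj, ha]
  obtain ⟨κ, -, hκ⟩ := lw_l4_conj_stab h hs yb ha' hb
    (by rw [mul_smul, mul_smul, hg'', hya0, hg'])
    (by rw [mul_smul, mul_smul, hg'', hya2, hg']) hyb0 hyb2
  refine ⟨κ * g, ?_⟩
  rw [hκ]
  group

/-- all involutions have the same number `f ∈ {2, 3}` of fixed points, `f ≡ m mod 2` -/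
theorem lw_l4_fix_const (h : Sharp G α 4 s m) (hs : Odd s) (hm : 3 ≤ m) :
    ∃ f : ℕ, (f = 2 ∨ f = 3) ∧ Even (m + f) ∧ ∀ a : G, orderOf a = 2 → (fixedBy α a).ncard = f := by
  have hα : 4 ≤ (Set.univ : Set α).ncard := by
    rw [Set.ncard_univ, h.card_α]; omega
  obtain ⟨y, -⟩ := lw_l4_emb_of_le hα
  obtain ⟨a₀, ha₀, h0, h1, -⟩ := lw_l4_exists21 h hs y
  have hle := lw_l4_fix_le h hs ha₀
  have hge : 2 ≤ (fixedBy α a₀).ncard := by
    have hsub : ({y 0, y 1} : Set α) ⊆ fixedBy α a₀ := by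
      intro x hx
      rcases hx with rfl | rfl
      · exact h0
      · exact h1
    have h01 : y 0 ≠ y 1 := fun hh => by
      have := y.injective hh
      exact absurd this (by decide)
    calc 2 = ({y 0, y 1} : Set α).ncard := (Set.ncard_pair h01).symm
      _ ≤ _ := Set.ncard_le_ncard hsub (Set.toFinite _)
  refine ⟨(fixedBy α a₀).ncard, by omega, lw_l4_parity h ha₀, ?_⟩
  intro b hb
  obtain ⟨g, rfl⟩ := lw_l4_conj h hs hm ha₀ hb
  rw [← smul_fixedBy]
  exact Set.ncard_image_of_injective _ (MulAction.injective g)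


/-- conjugating by an element of the stabiliser of `y` does not change the action on `y` -/
theorem lw_l4_conj_act (y : Fin 4 ↪ α) {κ : G} (hκ : κ ∈ stabilizer G y) (a : G) (i j : Fin 4)
    (hij : a • y i = y j) : (κ * a * κ⁻¹) • y i = y j := by
  have h1 := (lw_l4_mem_stab_iff y κ).1 hκ
  have h2 : κ⁻¹ • y i = y i := by
    rw [inv_smul_eq_iff, h1]
  rw [mul_smul, mul_smul, h2, hij, h1]

/-- orbit–stabiliser for the involutions of shape `(y₀ y₁)(y₂ y₃)` under the stabiliser of `y` -/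
theorem lw_l4_i02 (h : Sharp G α 4 s m) (hs : Odd s) (y : Fin 4 ↪ α) {a : G}
    (ha : orderOf a = 2) (ha0 : a • y 0 = y 1) (ha2 : a • y 2 = y 3) :
    Nat.card {b : G // orderOf b = 2 ∧ b • y 0 = y 1 ∧ b • y 2 = y 3} *
      Nat.card {κ : G // κ ∈ stabilizer G y ∧ κ * a = a * κ} = s := by
  classical
  have hK := lw_sharp_card_stab h y
  let I := {b : G // orderOf b = 2 ∧ b • y 0 = y 1 ∧ b • y 2 = y 3}
  let C := {κ : G // κ ∈ stabilizer G y ∧ κ * a = a * κ}
  let f : stabilizer G y → I := fun κ =>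
    ⟨κ.1 * a * κ.1⁻¹, by rw [lw_l4_orderOf_conj, ha], lw_l4_conj_act y κ.2 a 0 1 ha0,
      lw_l4_conj_act y κ.2 a 2 3 ha2⟩
  have hfib : ∀ b : I, Nat.card {κ : stabilizer G y // f κ = b} = Nat.card C := by
    intro b
    obtain ⟨κb, hκb, hb⟩ := lw_l4_conj_stab h hs y ha b.2.1 ha0 ha2 b.2.2.1 b.2.2.2
    refine Nat.card_congr ⟨fun κ => ⟨κb⁻¹ * κ.1.1, Subgroup.mul_mem _ (Subgroup.inv_mem _ hκb) κ.1.2, ?_⟩,
      fun c => ⟨⟨κb * c.1, Subgroup.mul_mem _ hκb c.2.1⟩, ?_⟩, ?_, ?_⟩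
    · have h1 : κ.1.1 * a * κ.1.1⁻¹ = κb * a * κb⁻¹ := by
        have := congrArg Subtype.val κ.2
        rw [hb] at this
        exact this
      calc κb⁻¹ * κ.1.1 * a = κb⁻¹ * (κ.1.1 * a * κ.1.1⁻¹) * κ.1.1 := by group
        _ = κb⁻¹ * (κb * a * κb⁻¹) * κ.1.1 := by rw [h1]
        _ = _ := by group
    · apply Subtype.ext
      change κb * c.1 * a * (κb * c.1)⁻¹ = b.1
      rw [hb, mul_assoc κb, c.2.2]
      group
    · intro κ
      apply Subtype.ext
      apply Subtype.ext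
      change κb * (κb⁻¹ * κ.1.1) = κ.1.1
      group
    · intro c
      apply Subtype.ext
      change κb⁻¹ * (κb * c.1) = c.1
      group
  have hI : Finite I := Subtype.finite
  have : Fintype I := Fintype.ofFinite I
  have e := Equiv.sigmaFiberEquiv f
  rw [← hK, ← Nat.card_congr e, Nat.card_sigma]
  simp only [hfib]
  rw [Finset.sum_const, Finset.card_univ, smul_eq_mul, Nat.card_eq_fintype_card]

/-- generic counting identity for the involutions -/
theorem lw_l4_count_gen (h : Sharp G α 4 s m) (P : G → (Fin 4 ↪ α) → Prop)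
    (hP : ∀ (g a : G) (y : Fin 4 ↪ α), P a y → P (g * a * g⁻¹) (g • y)) (c : ℕ)
    (hc : ∀ a : G, orderOf a = 2 → Nat.card {y : Fin 4 ↪ α // P a y} = c) (y₀ : Fin 4 ↪ α) :
    Nat.card {a : G // orderOf a = 2} * c =
      (m + 4).descFactorial 4 * Nat.card {b : G // orderOf b = 2 ∧ P b y₀} := by
  classical
  have h1 := lw_double_count h.trans (fun a y => orderOf a = 2 ∧ P a y)
    (fun g a y hR => ⟨by rw [lw_l4_orderOf_conj]; exact hR.1, hP g a y hR.2⟩) y₀
  rw [h.card_α, add_comm 4 m] at h1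
  rw [← h1]
  let e : {p : G × (Fin 4 ↪ α) // orderOf p.1 = 2 ∧ P p.1 p.2} ≃
      Σ a : {a : G // orderOf a = 2}, {y : Fin 4 ↪ α // P a.1 y} :=
    ⟨fun p => ⟨⟨p.1.1, p.2.1⟩, ⟨p.1.2, p.2.2⟩⟩, fun q => ⟨(q.1.1, q.2.1), q.1.2, q.2.2⟩,
      fun p => rfl, fun q => rfl⟩
  have : Fintype {a : G // orderOf a = 2} := Fintype.ofFinite _
  rw [Nat.card_congr e, Nat.card_sigma]
  have : ∀ a : {a : G // orderOf a = 2}, Nat.card {y : Fin 4 ↪ α // P a.1 y} = c :=
    fun a => hc a.1 a.2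
  simp only [this]
  rw [Finset.sum_const, Finset.card_univ, smul_eq_mul, Nat.card_eq_fintype_card]

/-- the two counting identities -/
theorem lw_l4_count (h : Sharp G α 4 s m) (hs : Odd s) (hm : 3 ≤ m) (y : Fin 4 ↪ α) (f : ℕ)
    (hf : ∀ a : G, orderOf a = 2 → (fixedBy α a).ncard = f) :
    Nat.card {a : G // orderOf a = 2} * ((m + 4 - f) * (m + 4 - f - 2)) =
        (m + 4).descFactorial 4 *
          Nat.card {b : G // orderOf b = 2 ∧ b • y 0 = y 1 ∧ b • y 2 = y 3} ∧
      Nat.card {a : G // orderOf a = 2} * (f * (f - 1) * (m + 4 - f)) =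
        (m + 4).descFactorial 4 *
          Nat.card {b : G // orderOf b = 2 ∧ b • y 0 = y 0 ∧ b • y 1 = y 1 ∧ b • y 2 = y 3} := by
  have key : ∀ (g a : G) (z : Fin 4 ↪ α) (i j : Fin 4), a • z i = z j →
      (g * a * g⁻¹) • (g • z) i = (g • z) j := by
    intro g a z i j hij
    rw [Function.Embedding.smul_apply, Function.Embedding.smul_apply, mul_smul, mul_smul,
      inv_smul_smul, hij]
  constructor
  · refine lw_l4_count_gen h (fun a z => a • z 0 = z 1 ∧ a • z 2 = z 3)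
      (fun g a z hz => ⟨key g a z 0 1 hz.1, key g a z 2 3 hz.2⟩) _ (fun a ha => ?_) y
    rw [lw_pattern02_count a (lw_l4_inv_mul_self ha), h.card_α, hf a ha, add_comm 4 m]
  · refine lw_l4_count_gen h (fun a z => a • z 0 = z 0 ∧ a • z 1 = z 1 ∧ a • z 2 = z 3)
      (fun g a z hz => ⟨key g a z 0 0 hz.1, key g a z 1 1 hz.2.1, key g a z 2 3 hz.2.2⟩) _
      (fun a ha => ?_) y
    rw [lw_pattern21_count a (lw_l4_inv_mul_self ha), h.card_α, hf a ha, add_comm 4 m]

end Cfsg.Agent.LW
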