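import Mathlib
import Cfsg.Agent.LW.Level4a

set_option autoImplicit false
set_option linter.unusedSectionVars false
set_option linter.unusedVariables false

/-! S0745/S0746 package P4c (file `Cfsg/Agent/LW/Level4.lean`): the 4-transitive case -/

namespace Cfsg.Agent.LW

open MulAction

variable {G α : Type*} [Group G] [MulAction G α] [Finite G] [Finite α]

/-- there is an injective 4-tuple -/
theorem lw_l4c_exists_y {s m : ℕ} (h : Sharp G α 4 s m) : Nonempty (Fin 4 ↪ α) := by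
  have hα : 4 ≤ (Set.univ : Set α).ncard := by
    rw [Set.ncard_univ, h.card_α]; omega
  obtain ⟨y, -⟩ := lw_l4_emb_of_le hα
  exact ⟨y⟩

/-- the product of two involutions with the same action `(y₀ y₁)(y₂ y₃)` fixes `y` -/
theorem lw_l4c_mul_mem (y : Fin 4 ↪ α) {a b : G}
    (ha : orderOf a = 2) (hb : orderOf b = 2) (ha0 : a • y 0 = y 1) (ha2 : a • y 2 = y 3)
    (hb0 : b • y 0 = y 1) (hb2 : b • y 2 = y 3) : a * b ∈ stabilizer G y := by
  have ha1 := lw_l4_inv_swap ha ha0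
  have ha3 := lw_l4_inv_swap ha ha2
  have hb1 := lw_l4_inv_swap hb hb0
  have hb3 := lw_l4_inv_swap hb hb2
  refine (lw_l4_mem_stab_iff y _).2 fun i => ?_
  fin_cases i
  · change (a * b) • y 0 = y 0
    rw [mul_smul, hb0, ha1]
  · change (a * b) • y 1 = y 1
    rw [mul_smul, hb1, ha0]
  · change (a * b) • y 2 = y 2
    rw [mul_smul, hb2, ha3]
  · change (a * b) • y 3 = y 3
    rw [mul_smul, hb3, ha2]

/-- the stabiliser of a 4-tuple also fixes every rearrangement of it -/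
theorem lw_l4c_stab_perm (y : Fin 4 ↪ α) (σ : Equiv.Perm (Fin 4)) {κ : G}
    (hκ : κ ∈ stabilizer G y) : κ ∈ stabilizer G (σ.toEmbedding.trans y) := by
  refine (lw_l4_mem_stab_iff _ _).2 fun i => ?_
  exact (lw_l4_mem_stab_iff y κ).1 hκ (σ i)

/-- the relation between the two pattern counts -/
theorem lw_l4c_rel {s m : ℕ} (h : Sharp G α 4 s m) (hs : Odd s) (hm : 3 ≤ m) (y : Fin 4 ↪ α)
    (f : ℕ) (hf3 : f ≤ 3) (hf : ∀ a : G, orderOf a = 2 → (fixedBy α a).ncard = f) :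
    (m + 4 - f - 2) *
        Nat.card {b : G // orderOf b = 2 ∧ b • y 0 = y 0 ∧ b • y 1 = y 1 ∧ b • y 2 = y 3} =
      f * (f - 1) * Nat.card {b : G // orderOf b = 2 ∧ b • y 0 = y 1 ∧ b • y 2 = y 3} := by
  obtain ⟨c1, c2⟩ := lw_l4_count h hs hm y f hf
  obtain ⟨a, ha, -⟩ := lw_l4_exists02 h hs y
  have hInv : 0 < Nat.card {a : G // orderOf a = 2} := by
    have : Nonempty {a : G // orderOf a = 2} := ⟨⟨a, ha⟩⟩
    exact Nat.card_pos
  have hmov : 0 < m + 4 - f := by omega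
  have key : Nat.card {a : G // orderOf a = 2} * (m + 4 - f) * ((m + 4 - f - 2) *
        Nat.card {b : G // orderOf b = 2 ∧ b • y 0 = y 0 ∧ b • y 1 = y 1 ∧ b • y 2 = y 3}) =
      Nat.card {a : G // orderOf a = 2} * (m + 4 - f) * (f * (f - 1) *
        Nat.card {b : G // orderOf b = 2 ∧ b • y 0 = y 1 ∧ b • y 2 = y 3}) := by
    calc _ = (Nat.card {a : G // orderOf a = 2} * ((m + 4 - f) * (m + 4 - f - 2))) *
          Nat.card {b : G // orderOf b = 2 ∧ b • y 0 = y 0 ∧ b • y 1 = y 1 ∧ b • y 2 = y 3} := by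
          ring
      _ = ((m + 4).descFactorial 4 *
            Nat.card {b : G // orderOf b = 2 ∧ b • y 0 = y 0 ∧ b • y 1 = y 1 ∧ b • y 2 = y 3}) *
          Nat.card {b : G // orderOf b = 2 ∧ b • y 0 = y 1 ∧ b • y 2 = y 3} := by
          rw [c1]; ring
      _ = _ := by rw [← c2]; ring
  exact Nat.eq_of_mul_eq_mul_left (Nat.mul_pos hInv hmov) key

/-- the number of involutions of shape `(y₀ y₁)(y₂ y₃)` divides `s` -/
theorem lw_l4c_i02_dvd {s m : ℕ} (h : Sharp G α 4 s m) (hs : Odd s) (y : Fin 4 ↪ α) :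
    Nat.card {b : G // orderOf b = 2 ∧ b • y 0 = y 1 ∧ b • y 2 = y 3} ∣ s := by
  obtain ⟨a, ha, ha0, ha2⟩ := lw_l4_exists02 h hs y
  exact Dvd.intro _ (lw_l4_i02 h hs y ha ha0 ha2)

theorem lw_l4c_i02_pos {s m : ℕ} (h : Sharp G α 4 s m) (hs : Odd s) (y : Fin 4 ↪ α) :
    0 < Nat.card {b : G // orderOf b = 2 ∧ b • y 0 = y 1 ∧ b • y 2 = y 3} := by
  obtain ⟨a, ha, ha0, ha2⟩ := lw_l4_exists02 h hs y
  have : Nonempty {b : G // orderOf b = 2 ∧ b • y 0 = y 1 ∧ b • y 2 = y 3} := ⟨⟨a, ha, ha0, ha2⟩⟩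
  exact Nat.card_pos

theorem lw_l4c_i21_pos {s m : ℕ} (h : Sharp G α 4 s m) (hs : Odd s) (y : Fin 4 ↪ α) :
    0 < Nat.card {b : G // orderOf b = 2 ∧ b • y 0 = y 0 ∧ b • y 1 = y 1 ∧ b • y 2 = y 3} := by
  obtain ⟨a, ha, ha0, ha1, ha2⟩ := lw_l4_exists21 h hs y
  have : Nonempty {b : G // orderOf b = 2 ∧ b • y 0 = y 0 ∧ b • y 1 = y 1 ∧ b • y 2 = y 3} :=
    ⟨⟨a, ha, ha0, ha1, ha2⟩⟩
  exact Nat.card_pos

/-- in the sharp case there is at most one involution of shape `(y₀)(y₁)(y₂ y₃)` -/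
theorem lw_l4c_i21_le {m : ℕ} (h : Sharp G α 4 1 m) (y : Fin 4 ↪ α) :
    Nat.card {b : G // orderOf b = 2 ∧ b • y 0 = y 0 ∧ b • y 1 = y 1 ∧ b • y 2 = y 3} ≤ 1 := by
  rw [Finite.card_le_one_iff_subsingleton]
  refine ⟨fun a b => ?_⟩
  obtain ⟨a, ha, ha0, ha1, ha2⟩ := a
  obtain ⟨b, hb, hb0, hb1, hb2⟩ := b
  apply Subtype.ext
  change a = b
  have ha3 := lw_l4_inv_swap ha ha2
  have hb3 := lw_l4_inv_swap hb hb2
  have hmem : a * b ∈ stabilizer G y := by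
    refine (lw_l4_mem_stab_iff y _).2 fun i => ?_
    fin_cases i
    · change (a * b) • y 0 = y 0
      rw [mul_smul, hb0, ha0]
    · change (a * b) • y 1 = y 1
      rw [mul_smul, hb1, ha1]
    · change (a * b) • y 2 = y 2
      rw [mul_smul, hb2, ha3]
    · change (a * b) • y 3 = y 3
      rw [mul_smul, hb3, ha2]
  have h1 := lw_l4_pow_s h y hmem
  rw [pow_one] at h1
  have h2 : b = a⁻¹ := (inv_eq_of_mul_eq_one_right h1).symm
  rw [h2, lw_l4_inv_inv ha]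

/-- the case of three fixed points -/
theorem lw_l4c_f3 {s m : ℕ} (h : Sharp G α 4 s m) (hs : Odd s) (hm : 3 ≤ m) (hr : 2 * s ≤ m)
    (hpar : Even (m + 3)) (hf : ∀ a : G, orderOf a = 2 → (fixedBy α a).ncard = 3) :
    m = 7 ∧ s = 1 := by
  obtain ⟨y⟩ := lw_l4c_exists_y h
  have hrel := lw_l4c_rel h hs hm y 3 le_rfl hf
  have hdvd := lw_l4c_i02_dvd h hs y
  have hsm := lw_sharp_dvd h
  have hspos := lw_sharp_pos h
  have h21 := lw_l4c_i21_pos h hs y
  have e1 : m + 4 - 3 - 2 = m - 1 := by omega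
  rw [e1] at hrel
  norm_num at hrel
  have hcop : Nat.Coprime (m - 1)
      (Nat.card {b : G // orderOf b = 2 ∧ b • y 0 = y 1 ∧ b • y 2 = y 3}) := by
    apply Nat.Coprime.coprime_dvd_right (hdvd.trans hsm)
    rw [Nat.coprime_comm, Nat.coprime_self_sub_right (by omega : 1 ≤ m)]
    exact Nat.coprime_one_right m
  have h6 : (m - 1) ∣ 6 := by
    have : (m - 1) ∣ 6 * Nat.card {b : G // orderOf b = 2 ∧ b • y 0 = y 1 ∧ b • y 2 = y 3} :=
      Dvd.intro _ hrel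
    exact hcop.dvd_of_dvd_mul_right this
  have hm7 : m ≤ 7 := by
    have := Nat.le_of_dvd (by norm_num) h6
    omega
  have hodd : ¬ Even m := by
    intro he
    have : Even 3 := (Nat.even_add.1 hpar).1 he
    exact absurd this (by decide)
  interval_cases m
  · -- m = 3
    exfalso
    have hs1 : s = 1 := by omega
    subst hs1
    have hi02 : Nat.card {b : G // orderOf b = 2 ∧ b • y 0 = y 1 ∧ b • y 2 = y 3} = 1 :=
      Nat.dvd_one.1 hdvd
    rw [hi02] at hrel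
    have := lw_l4c_i21_le h y
    omega
  · exact absurd (by decide : Even 4) hodd
  · exact absurd h6 (by decide)
  · exact absurd h6 (by decide)
  · refine ⟨rfl, ?_⟩
    have hs3 : s ≤ 3 := by omega
    interval_cases s
    · rfl
    · exact absurd hsm (by decide)
    · exact absurd hsm (by decide)

/-- in the case of two fixed points, every 4-point stabiliser is regular on the involutions of
shape `(y₀ y₁)(y₂ y₃)` -/
theorem lw_l4c_f2_card {s m : ℕ} (h : Sharp G α 4 s m) (hs : Odd s) (hm : 3 ≤ m)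
    (hr : 2 * s ≤ m) (hf : ∀ a : G, orderOf a = 2 → (fixedBy α a).ncard = 2) (y : Fin 4 ↪ α) :
    Nat.card {b : G // orderOf b = 2 ∧ b • y 0 = y 1 ∧ b • y 2 = y 3} = s := by
  have hrel := lw_l4c_rel h hs hm y 2 (by norm_num) hf
  have hdvd := lw_l4c_i02_dvd h hs y
  have hspos := lw_sharp_pos h
  have h21 := lw_l4c_i21_pos h hs y
  have hle := Nat.le_of_dvd hspos hdvd
  have e1 : m + 4 - 2 - 2 = m := by omega
  rw [e1] at hrel
  norm_num at hrel
  have : m ≤ m * Nat.card {b : G // orderOf b = 2 ∧ b • y 0 = y 0 ∧ b • y 1 = y 1 ∧ b • y 2 = y 3} :=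
    Nat.le_mul_of_pos_right m h21
  omega

/-- if all products `a κ` are involutions, `a` inverts the 4-point stabiliser -/
theorem lw_l4c_invert {s m : ℕ} (h : Sharp G α 4 s m) (y : Fin 4 ↪ α)
    (hi : Nat.card {b : G // orderOf b = 2 ∧ b • y 0 = y 1 ∧ b • y 2 = y 3} = s) {a : G}
    (ha : orderOf a = 2) (ha0 : a • y 0 = y 1) (ha2 : a • y 2 = y 3) {κ : G}
    (hκ : κ ∈ stabilizer G y) : a * κ * a = κ⁻¹ := by
  let ψ : {b : G // orderOf b = 2 ∧ b • y 0 = y 1 ∧ b • y 2 = y 3} → stabilizer G y :=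
    fun b => ⟨a * b.1, lw_l4c_mul_mem y ha b.2.1 ha0 ha2 b.2.2.1 b.2.2.2⟩
  have hinj : Function.Injective ψ := by
    intro b b' hbb
    have := congrArg Subtype.val hbb
    apply Subtype.ext
    exact mul_left_cancel this
  have hbij := hinj.bijective_of_nat_card_le (by rw [hi, lw_sharp_card_stab h y])
  obtain ⟨⟨b, hb, hb0, hb2⟩, hbκ⟩ := hbij.2 ⟨κ, hκ⟩
  have hbκ' : a * b = κ := congrArg Subtype.val hbκ
  have hb' : b = a * κ := by
    rw [← hbκ', ← mul_assoc, lw_l4_inv_mul_self ha, one_mul]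
  have hbb := lw_l4_inv_mul_self hb
  rw [hb'] at hbb
  apply eq_inv_of_mul_eq_one_left
  rw [← hbb]
  group

/-- the case of two fixed points -/
theorem lw_l4c_f2 {s m : ℕ} (h : Sharp G α 4 s m) (hs : Odd s) (hm : 3 ≤ m) (hr : 2 * s ≤ m)
    (hf : ∀ a : G, orderOf a = 2 → (fixedBy α a).ncard = 2) : False := by
  obtain ⟨y⟩ := lw_l4c_exists_y h
  have hcard := lw_l4c_f2_card h hs hm hr hf
  -- the three rearrangements
  let y1 : Fin 4 ↪ α := (Equiv.swap (1 : Fin 4) 2).toEmbedding.trans y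
  let y2 : Fin 4 ↪ α := ((Equiv.swap (1 : Fin 4) 3) * (Equiv.swap 2 3) : Equiv.Perm (Fin 4)).toEmbedding.trans y
  have y1_0 : y1 0 = y 0 := rfl
  have y1_1 : y1 1 = y 2 := rfl
  have y1_2 : y1 2 = y 1 := rfl
  have y1_3 : y1 3 = y 3 := rfl
  have y2_0 : y2 0 = y 0 := rfl
  have y2_1 : y2 1 = y 3 := rfl
  have y2_2 : y2 2 = y 1 := rfl
  have y2_3 : y2 3 = y 2 := rfl
  obtain ⟨a₁, ha₁, h10, h12⟩ := lw_l4_exists02 h hs y
  obtain ⟨a₂, ha₂, h20, h22⟩ := lw_l4_exists02 h hs y1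
  rw [y1_0, y1_1] at h20
  rw [y1_2, y1_3] at h22
  have h11 := lw_l4_inv_swap ha₁ h10
  have h13 := lw_l4_inv_swap ha₁ h12
  have h21 := lw_l4_inv_swap ha₂ h20
  have h23 := lw_l4_inv_swap ha₂ h22
  -- both invert the stabiliser of `y`
  have inv1 : ∀ κ ∈ stabilizer G y, a₁ * κ * a₁ = κ⁻¹ := fun κ hκ =>
    lw_l4c_invert h y (hcard y) ha₁ h10 h12 hκ
  have inv2 : ∀ κ ∈ stabilizer G y, a₂ * κ * a₂ = κ⁻¹ := fun κ hκ =>
    lw_l4c_invert h y1 (hcard y1) ha₂ (by rw [y1_0, y1_1]; exact h20)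
      (by rw [y1_2, y1_3]; exact h22) (lw_l4c_stab_perm y _ hκ)
  -- `b = a₁ a₂` centralises the stabiliser
  have hcomm : ∀ κ ∈ stabilizer G y, (a₁ * a₂) * κ = κ * (a₁ * a₂) := by
    intro κ hκ
    have e2 := inv2 κ hκ
    have e1 := inv1 κ⁻¹ (Subgroup.inv_mem _ hκ)
    rw [inv_inv] at e1
    have e3 : a₁ * a₂ * κ * a₂ * a₁ = κ := by
      calc a₁ * a₂ * κ * a₂ * a₁ = a₁ * (a₂ * κ * a₂) * a₁ := by group
        _ = κ := by rw [e2, e1]
    calc a₁ * a₂ * κ = (a₁ * a₂ * κ * a₂ * a₁) * (a₁ * a₂) := by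
          have := lw_l4_inv_mul_self ha₁
          have := lw_l4_inv_mul_self ha₂
          calc a₁ * a₂ * κ = a₁ * a₂ * κ * (a₂ * (a₁ * a₁) * a₂) := by
                rw [lw_l4_inv_mul_self ha₁, mul_one, lw_l4_inv_mul_self ha₂, mul_one]
            _ = _ := by group
      _ = κ * (a₁ * a₂) := by rw [e3]
  -- the action of `b` on `y`
  have hb0 : (a₁ * a₂) • y 0 = y 3 := by rw [mul_smul, h20, h12]
  have hb3 : (a₁ * a₂) • y 3 = y 0 := by rw [mul_smul, h23, h11]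
  have hb1 : (a₁ * a₂) • y 1 = y 2 := by rw [mul_smul, h22, h13]
  have hb2 : (a₁ * a₂) • y 2 = y 1 := by rw [mul_smul, h21, h10]
  have hbb : (a₁ * a₂) * (a₁ * a₂) ∈ stabilizer G y := by
    refine (lw_l4_mem_stab_iff y _).2 fun i => ?_
    fin_cases i
    · change ((a₁ * a₂) * (a₁ * a₂)) • y 0 = y 0
      rw [mul_smul, hb0, hb3]
    · change ((a₁ * a₂) * (a₁ * a₂)) • y 1 = y 1
      rw [mul_smul, hb1, hb2]
    · change ((a₁ * a₂) * (a₁ * a₂)) • y 2 = y 2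
      rw [mul_smul, hb2, hb1]
    · change ((a₁ * a₂) * (a₁ * a₂)) • y 3 = y 3
      rw [mul_smul, hb3, hb0]
  obtain ⟨j, hj⟩ := hs
  have hpow : ((a₁ * a₂) * (a₁ * a₂)) ^ s = 1 := lw_l4_pow_s h y hbb
  have hgj : ∀ i, ((a₁ * a₂) * (a₁ * a₂)) ^ j • y i = y i := fun i =>
    (lw_l4_mem_stab_iff y _).1 (Subgroup.pow_mem _ hbb j) i
  have hgs : (a₁ * a₂) ^ s = ((a₁ * a₂) * (a₁ * a₂)) ^ j * (a₁ * a₂) := by
    rw [hj, pow_succ, pow_mul, pow_two]
  -- `b' = b ^ s`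
  have hc0 : (a₁ * a₂) ^ s • y2 0 = y2 1 := by
    rw [y2_0, y2_1, hgs, mul_smul, hb0, hgj]
  have hc2 : (a₁ * a₂) ^ s • y2 2 = y2 3 := by
    rw [y2_2, y2_3, hgs, mul_smul, hb1, hgj]
  have hc : orderOf ((a₁ * a₂) ^ s) = 2 := by
    have := Fact.mk Nat.prime_two
    apply orderOf_eq_prime
    · rw [← pow_mul, mul_comm, pow_mul, pow_two]; exact hpow
    · intro h1
      rw [h1, one_smul, y2_0, y2_1] at hc0
      exact absurd (y.injective hc0) (by decide)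
  -- the stabiliser is trivial
  have htriv : ∀ κ ∈ stabilizer G y, κ = 1 := by
    intro κ hκ
    have hκ2 := lw_l4c_stab_perm y
      ((Equiv.swap (1 : Fin 4) 3) * (Equiv.swap 2 3) : Equiv.Perm (Fin 4)) hκ
    have e := lw_l4c_invert h y2 (hcard y2) hc hc0 hc2 hκ2
    have hcm : (a₁ * a₂) ^ s * κ = κ * (a₁ * a₂) ^ s :=
      ((Commute.pow_left (hcomm κ hκ) s)).eq
    have hcc := lw_l4_inv_mul_self hc
    have e' : κ = κ⁻¹ := by
      rw [← e, hcm, mul_assoc, hcc, mul_one]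
    have hκ2' : κ * κ = 1 := by
      nth_rewrite 1 [e']
      exact inv_mul_cancel κ
    have hκs := lw_l4_pow_s h y hκ
    have : κ ^ (2 * j) = 1 := by rw [pow_mul, pow_two, hκ2', one_pow]
    rw [hj, pow_succ, this, one_mul] at hκs
    exact hκs
  have hs1 : s = 1 := by
    rw [← lw_sharp_card_stab h y]
    have : Subsingleton (stabilizer G y) :=
      ⟨fun a b => Subtype.ext ((htriv a.1 a.2).trans (htriv b.1 b.2).symm)⟩
    exact Nat.card_unique
  -- now `m ≤ 2`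
  have hrel := lw_l4c_rel h ⟨j, hj⟩ hm y 2 (by norm_num) hf
  have h21' := lw_l4c_i21_pos h ⟨j, hj⟩ y
  have e1 : m + 4 - 2 - 2 = m := by omega
  rw [e1, hcard y] at hrel
  norm_num at hrel
  have : m ≤ m * Nat.card {b : G // orderOf b = 2 ∧ b • y 0 = y 0 ∧ b • y 1 = y 1 ∧ b • y 2 = y 3} :=
    Nat.le_mul_of_pos_right m h21'
  omega

theorem lw_level4 {s m : ℕ} (h : Sharp G α 4 s m) (hs : Odd s) (hm : 3 ≤ m) (hr : 2 * s ≤ m) :
    m = 7 ∧ s = 1 := by
  obtain ⟨f, hf23, hpar, hf⟩ := lw_l4_fix_const h hs hm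
  rcases hf23 with rfl | rfl
  · exact (lw_l4c_f2 h hs hm hr hf).elim
  · exact lw_l4c_f3 h hs hm hr hpar hf

end Cfsg.Agent.LW
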