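import Mathlib
import Cfsg.Agent.LW.Defs

set_option autoImplicit false

/-! S0745/S0746 package P5 (file `Cfsg/Agent/LW/Level6.lean`): no sharply 6-transitive group of degree 13 -/

namespace Cfsg.Agent.LW

open MulAction

variable {G α : Type*} [Group G] [MulAction G α] [Finite G] [Finite α]

omit [Finite G] in
/-- an element fixing at least `t + 1` points pointwise on a set is trivial -/
theorem lw_l6_eq_one_of_fix_set {t s m : ℕ} (h : Sharp G α t s m) (g : G) (S : Set α)
    (hS : t + 1 ≤ S.ncard) (hg : ∀ x ∈ S, g • x = x) : g = 1 := by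
  apply h.fix
  have hsub : S ⊆ fixedBy α g := fun x hx => by
    simpa [MulAction.mem_fixedBy] using hg x hx
  exact le_trans hS (Set.ncard_le_ncard hsub (Set.toFinite _))

/-- the arithmetic contradiction: `95040 / e ≢ 1 (mod 13)` for `e ∣ 12` -/
theorem lw_l6_arith (e idx : ℕ) (he : e ∣ 12) (h1 : 13 * e * idx = 1235520) (h2 : idx % 13 = 1) :
    False := by
  have hle : e ≤ 12 := Nat.le_of_dvd (by norm_num) he
  interval_cases e <;> omega

theorem lw_level6 (h : Sharp G α 6 1 7) : False := by
  classical
  have hα : Nat.card α = 13 := h.card_α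
  have hG : Nat.card G = 1235520 := by
    rw [h.card_G]; decide
  have : Fact (Nat.Prime 13) := ⟨by norm_num⟩
  obtain ⟨P⟩ := (inferInstance : Nonempty (Sylow 13 G))
  -- `|P| = 13`
  have hP : Nat.card P = 13 := by
    have hfac : (Nat.card G).factorization 13 = 1 := by
      rw [hG]
      have h1 : 1 ≤ (1235520 : ℕ).factorization 13 :=
        (Nat.Prime.pow_dvd_iff_le_factorization (by norm_num) (by norm_num)).mp (by norm_num)
      have h2 : ¬ 2 ≤ (1235520 : ℕ).factorization 13 := fun hh =>
        absurd ((Nat.Prime.pow_dvd_iff_le_factorization (by norm_num) (by norm_num)).mpr hh)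
          (by norm_num)
      omega
    rw [Sylow.card_eq_multiplicity, hfac, pow_one]
  have hcyc : IsCyclic P := isCyclic_of_prime_card hP
  -- `P` has no fixed point
  have hnofix : ∀ a : α, ∃ g ∈ (P : Subgroup G), g • a ≠ a := by
    intro a
    by_contra hcon
    push Not at hcon
    -- number of fixed points of `P` is `≡ 13 (mod 13)` and at least `1`, hence `13`
    have hmod := (P.isPGroup').card_modEq_card_fixedPoints (α := α)
    rw [hα] at hmod
    have hafix : a ∈ fixedPoints P α := fun g => hcon g.1 g.2
    have hpos : 0 < Nat.card (fixedPoints P α) := by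
      have : Nonempty (fixedPoints P α) := ⟨⟨a, hafix⟩⟩
      exact Nat.card_pos
    have hle : Nat.card (fixedPoints P α) ≤ 13 := by
      have h1 := Nat.card_le_card_of_injective (Subtype.val : fixedPoints P α → α)
        Subtype.val_injective
      rw [hα] at h1
      exact h1
    have h13 : Nat.card (fixedPoints P α) = 13 := by
      have := hmod
      unfold Nat.ModEq at this
      omega
    -- every point is fixed
    have hall : fixedPoints P α = Set.univ := by
      apply Set.eq_of_subset_of_ncard_le (Set.subset_univ _) _ (Set.toFinite _)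
      rw [Set.ncard_univ, hα, ← Nat.card_coe_set_eq, h13]
    -- so `P` is trivial
    have htriv : ∀ g : P, g = 1 := by
      intro g
      have : (g : G) = 1 := by
        apply lw_l6_eq_one_of_fix_set h (g : G) Set.univ
        · rw [Set.ncard_univ, hα]; norm_num
        · intro x _
          have hx : x ∈ fixedPoints P α := by rw [hall]; trivial
          exact hx g
      exact Subtype.ext this
    have : Nat.card P = 1 := by
      have : Subsingleton P := ⟨fun x y => by rw [htriv x, htriv y]⟩
      exact Nat.card_unique
    omega
  -- every `P`-orbit has 13 points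
  have horb : ∀ a : α, (orbit P a).ncard = 13 := by
    intro a
    have hdvd : Nat.card (orbit P a) ∣ 13 := by
      have h1 : (stabilizer P a).index ∣ Nat.card P := Subgroup.index_dvd_card _
      rw [MulAction.index_stabilizer, hP] at h1
      rwa [Nat.card_coe_set_eq]
    have hne1 : Nat.card (orbit P a) ≠ 1 := by
      intro h1
      obtain ⟨g, hgP, hga⟩ := hnofix a
      have hsub : Subsingleton (orbit P a) := (Nat.card_eq_one_iff_unique.mp h1).1
      have h1' : (⟨(⟨g, hgP⟩ : P) • a, mem_orbit a _⟩ : orbit P a) = ⟨a, mem_orbit_self a⟩ :=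
        Subsingleton.elim _ _
      apply hga
      exact congrArg Subtype.val h1'
    rw [← Nat.card_coe_set_eq]
    rcases (Nat.dvd_prime (by norm_num : Nat.Prime 13)).mp hdvd with h1 | h1
    · exact absurd h1 hne1
    · exact h1
  -- elements centralizing `P` and fixing a point are trivial
  have hfree : ∀ c : G, (∀ x ∈ (P : Subgroup G), x * c = c * x) → ∀ a : α, c • a = a → c = 1 := by
    intro c hc a hca
    apply lw_l6_eq_one_of_fix_set h c (orbit P a)
    · rw [horb a]; norm_num
    · rintro x ⟨g, rfl⟩
      show c • ((g : G) • a) = (g : G) • a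
      rw [← mul_smul, ← hc g.1 g.2, mul_smul, hca]
  -- the centralizer of `P` has order `13`
  set C : Subgroup G := Subgroup.centralizer ((P : Subgroup G) : Set G) with hCdef
  have hPC : (P : Subgroup G) ≤ C := by
    intro x hx
    rw [hCdef, Subgroup.mem_centralizer_iff]
    intro y hy
    have hcomm := (IsCyclic.commGroup (α := P)).mul_comm ⟨y, hy⟩ ⟨x, hx⟩
    exact congrArg Subtype.val hcomm
  have hCcard : Nat.card C = 13 := by
    apply le_antisymm
    · obtain ⟨a⟩ : Nonempty α := by
        apply Nat.card_pos_iff.mp ?_ |>.1
        rw [hα]; norm_num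
      rw [← hα]
      apply Nat.card_le_card_of_injective (fun c : C => (c : G) • a)
      intro c c' hcc
      have hcc' : (c : G) • a = (c' : G) • a := hcc
      have hmem : ∀ x ∈ (P : Subgroup G), x * ((c' : G)⁻¹ * c) = ((c' : G)⁻¹ * c) * x := by
        intro x hx
        have h1 := (Subgroup.mem_centralizer_iff.mp (C.mul_mem (C.inv_mem c'.2) c.2)) x hx
        exact h1
      have := hfree ((c' : G)⁻¹ * c) hmem a (by rw [mul_smul, hcc', ← mul_smul, inv_mul_cancel, one_smul])
      exact Subtype.ext (by rw [← mul_one (c' : G), ← this, mul_inv_cancel_left])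
    · rw [← hP]
      exact Subgroup.card_le_of_le hPC
  -- the normalizer
  set N : Subgroup G := Subgroup.normalizer ((P : Subgroup G) : Set G) with hNdef
  let φ : N →* MulAut (P : Subgroup G) := (P : Subgroup G).normalizerMonoidHom
  have hker : Nat.card φ.ker = 13 := by
    have : φ.ker = C.subgroupOf N := Subgroup.normalizerMonoidHom_ker (P : Subgroup G)
    rw [this, ← hCcard]
    exact Nat.card_congr (Subgroup.subgroupOfEquivOfLe (Subgroup.centralizer_le_normalizer _)).toEquiv
  have hrange : Nat.card φ.range ∣ 12 := by
    have h1 : Nat.card φ.range ∣ Nat.card (MulAut (P : Subgroup G)) :=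
      Subgroup.card_subgroup_dvd_card _
    have h2 : Nat.card (MulAut (P : Subgroup G)) = 12 := by
      rw [IsCyclic.card_mulAut, hP]; decide
    rwa [h2] at h1
  have hNcard : Nat.card N = 13 * Nat.card φ.range := by
    calc Nat.card N = Nat.card φ.ker * φ.ker.index := (Subgroup.card_mul_index _).symm
      _ = 13 * Nat.card φ.range := by rw [hker, Subgroup.index_ker]
  have hidx : Nat.card N * N.index = 1235520 := by
    rw [Subgroup.card_mul_index, hG]
  have hmod : N.index % 13 = 1 := by
    have h1 := card_sylow_modEq_one 13 G
    rw [Sylow.card_eq_index_normalizer P] at h1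
    exact h1
  rw [hNcard] at hidx
  exact lw_l6_arith _ _ hrange hidx hmod

end Cfsg.Agent.LW
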