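import Mathlib
import Cfsg.Agent.LW.Base
import Cfsg.Agent.LW.Frob
import Cfsg.Agent.LW.Level4
import Cfsg.Agent.LW.Level6
import Cfsg.Agent.LW.Arith

set_option autoImplicit false
set_option linter.unusedSectionVars false
set_option linter.unusedVariables false

/-! S0745/S0746 package P7 (file `Cfsg/Agent/LW/Main.lean`): the abstract main theorem -/

namespace Cfsg.Agent.LW

open MulAction

universe u v

/-- descent along point stabilisers -/
theorem lw_main_descend {s m : ℕ} {P : Prop} (t₀ : ℕ)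
    (base : ∀ (G : Type u) (α : Type v) [Group G] [MulAction G α] [Finite G] [Finite α],
      Sharp G α t₀ s m → P) :
    ∀ (d : ℕ) (G : Type u) (α : Type v) [Group G] [MulAction G α] [Finite G] [Finite α],
      Sharp G α (t₀ + d) s m → P := by
  intro d
  induction d with
  | zero =>
    intro G α _ _ _ _ h
    exact base G α h
  | succ d ih =>
    intro G α _ _ _ _ h
    have hne : Nonempty α := by
      have : 0 < Nat.card α := by rw [h.card_α]; omega
      exact (Nat.card_pos_iff.1 this).1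
    obtain ⟨a⟩ := hne
    have h' : Sharp G α ((t₀ + d) + 1) s m := h
    exact ih (stabilizer G a) (SubMulAction.ofStabilizer G a) (lw_sharp_stab h' a)

theorem lw_ge4 {G : Type u} {α : Type v} [Group G] [MulAction G α] [Finite G] [Finite α]
    {t s m : ℕ}
    (h : Sharp G α t s m) (ht : 4 ≤ t) (hs : Odd s) (hm : 3 ≤ m)
    (hr : 2 * s ≤ m) : m = 7 ∧ s = 1 := by
  obtain ⟨d, rfl⟩ := Nat.exists_eq_add_of_le ht
  exact lw_main_descend 4 (fun G α _ _ _ _ h => lw_level4 h hs hm hr) d G α h

theorem lw_ge6 {G : Type u} {α : Type v} [Group G] [MulAction G α] [Finite G] [Finite α] {t : ℕ}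
    (h : Sharp G α t 1 7) (ht : 6 ≤ t) : False := by
  obtain ⟨d, rfl⟩ := Nat.exists_eq_add_of_le ht
  exact lw_main_descend 6 (fun G α _ _ _ _ h => lw_level6 h) d G α h

theorem lw_frob_ge {G : Type u} {α : Type v} [Group G] [MulAction G α] [Finite G] [Finite α]
    {t s m p : ℕ}
    (h : Sharp G α t s m) (ht : 1 ≤ t) (hp : p.Prime)
    (hp2 : p ≠ 2) (hm : m + 1 = 2 * p) (hs : 1 < s) (hsp : ¬ s ∣ p - 1) : False := by
  obtain ⟨d, rfl⟩ := Nat.exists_eq_add_of_le ht
  exact lw_main_descend 1 (fun G α _ _ _ _ h => lw_frob h hp hp2 hm hs hsp) d G α h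

/-- there is no sharply 3-transitive group of degree 7 -/
theorem lw_main_no_s3_7 {G : Type u} {α : Type v} [Group G] [MulAction G α] [Finite G] [Finite α]
    (h : Sharp G α 3 1 4) : False := by
  have hne : Nonempty α := by
    have : 0 < Nat.card α := by rw [h.card_α]; omega
    exact (Nat.card_pos_iff.1 this).1
  obtain ⟨a⟩ := hne
  have h1 : Sharp (stabilizer G a) (SubMulAction.ofStabilizer G a) 2 1 4 := lw_sharp_stab h a
  have h2 : Sharp (stabilizer G a) (SubMulAction.ofStabilizer G a) 1 5 5 := lw_sharp_reindex h1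
  exact lw_frob h2 Nat.prime_three (by norm_num) (by norm_num) (by norm_num) (by decide)

variable {G α : Type*} [Group G] [MulAction G α] [Finite G] [Fintype α] [DecidableEq α]
  [FaithfulSMul G α] {t : ℕ}

theorem lw_main (h : Hyp G α t) :
    Fintype.card α = t + 2 ∨ (Fintype.card α = 5 ∧ t = 2 ∧ Nat.card G = 20) ∨
      (Fintype.card α = 6 ∧ t = 3 ∧ Nat.card G = 120) ∨
      (Fintype.card α = 9 ∧ t = 3 ∧ (Nat.card G = 504 ∨ Nat.card G = 1512)) := by
  obtain ⟨s, r, hS, hs, hr, h1, h2⟩ := lw_base h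
  have hcα : Fintype.card α = t + r * s := by
    rw [← Nat.card_eq_fintype_card]; exact hS.card_α
  have hcG := hS.card_G
  have hspos : 0 < s := hs.pos
  have ht1 := h.ht1
  rcases Nat.lt_or_ge t 4 with ht4 | ht4
  · interval_cases t
    · -- t = 1
      obtain ⟨rfl, rfl⟩ := lw_arith1 hs hr h1 h2
      left; rw [hcα]
    · -- t = 2
      rcases lw_arith2 hs hr h1 h2 with ⟨rfl, rfl⟩ | ⟨rfl, rfl⟩ | ⟨rfl, rfl⟩
      · left; rw [hcα]
      · right; left
        refine ⟨by rw [hcα], rfl, ?_⟩
        rw [hcG]; decide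
      · exact (lw_frob_ge (p := 5) hS (by norm_num) (by norm_num) (by norm_num) (by norm_num)
          (by norm_num) (by decide)).elim
    · -- t = 3
      rcases lw_arith3 hs hr h1 h2 with ⟨rfl, rfl⟩ | ⟨rfl, rfl⟩ | ⟨rfl, rfl⟩ | ⟨rfl, rfl⟩ |
        ⟨rfl, rfl⟩ | ⟨rfl, rfl⟩ | ⟨rfl, rfl⟩
      · left; rw [hcα]
      · right; right; right
        refine ⟨by rw [hcα], rfl, Or.inr ?_⟩
        rw [hcG]; decide
      · right; right; left
        refine ⟨by rw [hcα], rfl, ?_⟩
        rw [hcG]; decide
      · exact (lw_frob_ge (p := 5) hS (by norm_num) (by norm_num) (by norm_num) (by norm_num)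
          (by norm_num) (by decide)).elim
      · exact (lw_frob_ge (p := 11) hS (by norm_num) (by norm_num) (by norm_num) (by norm_num)
          (by norm_num) (by decide)).elim
      · exact (lw_main_no_s3_7 hS).elim
      · right; right; right
        refine ⟨by rw [hcα], rfl, Or.inl ?_⟩
        rw [hcG]; decide
  · -- t ≥ 4
    rcases Nat.lt_or_ge (r * s) 3 with hm | hm
    · -- m = 2
      have hm2 : 2 ≤ r * s := by nlinarith
      left; rw [hcα]; omega
    · exfalso
      have hrs : 2 * s ≤ r * s := Nat.mul_le_mul_right s hr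
      obtain ⟨hm7, rfl⟩ := lw_ge4 hS ht4 hs hm hrs
      rw [mul_one] at hm7
      subst hm7
      have h7 : 7 ≤ t + 1 := (Nat.Prime.dvd_factorial (by norm_num)).1 h1
      exact lw_ge6 hS (by omega)

end Cfsg.Agent.LW
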